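import Cfsg.Agent.Lib.LocalEven.FaithfulBound.Basic
import Cfsg.Agent.Lib.LocalEven.DihedralCriterion
import Cfsg.Agent.Lib.PGroup.ElemAbelian
import Cfsg.Agent.Lib.Components.DihedralLemma
import Cfsg.Agent.S3755

/-!
Indices of the fixed points of elementary abelian `2`-groups of an `S₃`-free linear group over the
field with two elements: chains of inverted odd elements.
-/

set_option autoImplicit false

namespace CfsgLib.LocalEven.S3Bound

open Subgroup Cfsg

variable {Γ L : Type*} [Group Γ] [Group L]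

/-- A faithful action of `Γ` on the elementary abelian `2`-subgroup `M` of `L` by conjugation. -/
structure Act (M : Subgroup L) (ι : Γ →* L) : Prop where
  elem : IsElementaryAbelian 2 M
  norm : ∀ g, ι g ∈ normalizer (M : Set L)
  faith : ∀ g, (∀ v ∈ M, ι g * v = v * ι g) → g = 1

/-- The fixed points. -/
def fixM (M : Subgroup L) (ι : Γ →* L) (B : Subgroup Γ) : Subgroup L :=
  M ⊓ centralizer ((B.map ι : Subgroup L) : Set L)

/-- The bound on the fixed points of `C` among those of `B`. -/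
def Ext (M : Subgroup L) (ι : Γ →* L) (B C : Subgroup Γ) : Prop :=
  Nat.card C ^ 2 * Nat.card ↥(fixM M ι (B ⊔ C)) ≤ Nat.card ↥(fixM M ι B)

variable {M : Subgroup L} {ι : Γ →* L}

theorem mem_fixM {B : Subgroup Γ} {v : L} :
    v ∈ fixM M ι B ↔ v ∈ M ∧ ∀ b ∈ B, ι b * v = v * ι b := by
  simp only [fixM, mem_inf, mem_centralizer_iff, SetLike.mem_coe, mem_map]
  exact and_congr_right fun _ => ⟨fun h b hb => h _ ⟨b, hb, rfl⟩, by rintro h _ ⟨b, hb, rfl⟩; exact h b hb⟩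

theorem fixM_anti {B C : Subgroup Γ} (h : B ≤ C) : fixM M ι C ≤ fixM M ι B :=
  fun _ hv => mem_fixM.2 ⟨(mem_fixM.1 hv).1, fun b hb => (mem_fixM.1 hv).2 b (h hb)⟩

theorem mem_fixM_closure {S : Set Γ} {v : L} (hv : v ∈ M) (h : ∀ s ∈ S, ι s * v = v * ι s) :
    v ∈ fixM M ι (Subgroup.closure S) := by
  refine mem_fixM.2 ⟨hv, fun b hb => ?_⟩
  have h' : Subgroup.closure S ≤ (centralizer ({v} : Set L)).comap ι :=
    (Subgroup.closure_le _).2 fun s hs => mem_centralizer_singleton_iff.2 (h s hs)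
  exact mem_centralizer_singleton_iff.1 (h' hb)

theorem fixM_conj {B : Subgroup Γ} {g : Γ} (hM : Act M ι) (hg : ∀ b ∈ B, Commute b g) {v : L}
    (hv : v ∈ fixM M ι B) : ι g * v * (ι g)⁻¹ ∈ fixM M ι B := by
  obtain ⟨hvM, hvB⟩ := mem_fixM.1 hv
  refine mem_fixM.2 ⟨(mem_normalizer_iff.1 (hM.norm g) v).1 hvM, fun b hb => ?_⟩
  exact ((show Commute (ι b) (ι g) from (hg b hb).map ι).mul_right (hvB b hb)).mul_right
    ((show Commute (ι b) (ι g) from (hg b hb).map ι).inv_right)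

/-- Complements in elementary abelian subgroups. -/
theorem exists_compl [Finite Γ] {A B : Subgroup Γ} (hA : IsElementaryAbelian 2 A) (hB : B ≤ A) :
    ∃ C, C ≤ A ∧ B ⊓ C = ⊥ ∧ B ⊔ C = A := by
  obtain ⟨C, -, ⟨hCA, hdis⟩, hmax⟩ := Finite.exists_le_maximal
    (p := fun C : Subgroup Γ => C ≤ A ∧ B ⊓ C = ⊥) (a := ⊥) ⟨bot_le, inf_bot_eq B⟩
  refine ⟨C, hCA, hdis, le_antisymm (sup_le hB hCA) fun a ha => ?_⟩
  by_contra hn
  have haC : a ∉ C := fun h => hn (mem_sup_right h)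
  have hle : C ⊔ zpowers a ≤ C := by
    refine hmax ⟨sup_le hCA (zpowers_le.2 ha), (eq_bot_iff_forall _).2 fun x hx => ?_⟩ le_sup_left
    obtain ⟨hxB, hxC⟩ := hx
    haveI := hA.1
    have hn' : zpowers a ≤ normalizer (C : Set Γ) := by
      refine zpowers_le.2 (mem_normalizer_iff.2 fun c => ?_)
      by_cases hc : c ∈ A
      · have : a * c * a⁻¹ = c := mul_inv_eq_iff_eq_mul.2
          (congrArg Subtype.val (hA.1.is_comm.comm (⟨a, ha⟩ : A) ⟨c, hc⟩))
        rw [this]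
      · refine iff_of_false (fun h => hc (hCA h)) fun h => hc ?_
        have := A.mul_mem (A.mul_mem (A.inv_mem ha) (hCA h)) ha
        simpa [mul_assoc] using this
    have hxC' : x ∈ ((C ⊔ zpowers a : Subgroup Γ) : Set Γ) := hxC
    rw [Subgroup.coe_mul_of_right_le_normalizer_left _ _ hn'] at hxC'
    clear hxC
    obtain ⟨c, hc, z, hz, rfl⟩ := hxC'
    obtain ⟨k, rfl⟩ := mem_zpowers_iff.1 hz
    have ha2 : a ^ (2 : ℤ) = 1 := by rw [show (2 : ℤ) = ((2 : ℕ) : ℤ) from rfl, zpow_natCast]; exact hA.2 a ha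
    rcases Int.even_or_odd k with ⟨j, hj⟩ | ⟨j, hj⟩
    · have hk : a ^ k = 1 := by rw [hj, ← two_mul, zpow_mul, ha2, one_zpow]
      simp only [hk, mul_one] at hxB ⊢
      exact mem_bot.1 (hdis ▸ ⟨hxB, hc⟩)
    · have hk : a ^ k = a := by rw [hj, zpow_add, zpow_mul, ha2, one_zpow, one_mul, zpow_one]
      simp only [hk] at hxB
      refine absurd ?_ hn
      have := Subgroup.mul_mem (B ⊔ C) (mem_sup_right (C.inv_mem hc) : c⁻¹ ∈ B ⊔ C) (mem_sup_left hxB)
      simpa using this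
  exact haC (hle (mem_sup_right (mem_zpowers a)))

theorem card_sup_le [Finite Γ] {A B C : Subgroup Γ} (hA : IsElementaryAbelian 2 A) (hB : B ≤ A) (hC : C ≤ A) :
    Nat.card ↥(B ⊔ C) ≤ Nat.card B * Nat.card C := by
  have hn : C ≤ normalizer (B : Set Γ) := fun c hc => by
    haveI := hA.1
    refine mem_normalizer_iff.2 fun b => ?_
    by_cases hb : b ∈ A
    · have h1 : c * b = b * c := congrArg Subtype.val (hA.1.is_comm.comm (⟨c, hC hc⟩ : A) ⟨b, hb⟩)
      rw [h1, mul_inv_cancel_right]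
    · refine iff_of_false (fun h => hb (hB h)) fun h => hb ?_
      have := A.mul_mem (A.mul_mem (A.inv_mem (hC hc)) (hB h)) (hC hc)
      simpa [mul_assoc] using this
  rw [← Nat.card_prod]
  refine Nat.card_le_card_of_surjective (fun p : B × C =>
    (⟨p.1 * p.2, Subgroup.mul_mem _ (mem_sup_left p.1.2) (mem_sup_right p.2.2)⟩ : ↥(B ⊔ C))) ?_
  rintro ⟨x, hx⟩
  rw [← SetLike.mem_coe, Subgroup.coe_mul_of_right_le_normalizer_left _ _ hn] at hx
  obtain ⟨b, hb, c, hc, rfl⟩ := hx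
  exact ⟨(⟨b, hb⟩, ⟨c, hc⟩), rfl⟩

theorem ext_bot (B : Subgroup Γ) : Ext M ι B ⊥ := by
  simp [Ext]

theorem ext_trans [Finite Γ] {A B C D : Subgroup Γ} (hA : IsElementaryAbelian 2 A) (hC : C ≤ A) (hD : D ≤ A)
    (h1 : Ext M ι B C) (h2 : Ext M ι (B ⊔ C) D) : Ext M ι B (C ⊔ D) := by
  unfold Ext at *
  rw [← sup_assoc]
  calc Nat.card ↥(C ⊔ D) ^ 2 * Nat.card ↥(fixM M ι (B ⊔ C ⊔ D))
      ≤ (Nat.card C * Nat.card D) ^ 2 * Nat.card ↥(fixM M ι (B ⊔ C ⊔ D)) :=
        Nat.mul_le_mul_right _ (Nat.pow_le_pow_left (card_sup_le hA hC hD) 2)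
    _ = Nat.card C ^ 2 * (Nat.card D ^ 2 * Nat.card ↥(fixM M ι (B ⊔ C ⊔ D))) := by ring
    _ ≤ _ := (Nat.mul_le_mul_left _ h2).trans h1

/-- An odd element commuting with an elementary abelian `2`-group and fixing all its fixed points is
trivial. -/
theorem eq_one_of_fix [Finite Γ] (hM : Act M ι) {B : Subgroup Γ} (hB : IsElementaryAbelian 2 B) {x : Γ}
    (hodd : Odd (orderOf x)) (hx : ∀ b ∈ B, Commute b x) (hfix : ∀ v ∈ fixM M ι B, ι x * v = v * ι x) :
    x = 1 := by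
  have hBc : ∀ a ∈ B, ∀ b ∈ B, Commute a b := fun a ha b hb =>
    congrArg Subtype.val (hB.1.is_comm.comm (⟨a, ha⟩ : B) ⟨b, hb⟩)
  suffices key : ∀ s : Set Γ, s.Finite → s ⊆ B →
      (∀ v ∈ fixM M ι (Subgroup.closure s), ι x * v = v * ι x) → x = 1 from
    key B (Set.toFinite _) subset_rfl (by rw [Subgroup.closure_eq]; exact hfix)
  intro s hs
  induction s, hs using Set.Finite.induction_on with
  | empty =>
    intro _ h
    exact hM.faith x fun v hv => h v (mem_fixM_closure hv (by simp))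
  | @insert b s _ _ ih =>
    intro hsB h
    obtain ⟨hbB, hsB⟩ := Set.insert_subset_iff.1 hsB
    refine ih hsB fun v hv => ?_
    have hcb : ∀ g ∈ Subgroup.closure s, Commute g b := by
      intro g hg
      exact hBc g ((Subgroup.closure_le B).2 hsB hg) b hbB
    have hcx : ∀ g ∈ Subgroup.closure s, Commute g x := fun g hg => hx g ((Subgroup.closure_le B).2 hsB hg)
    have hvM := (mem_fixM.1 hv).1
    have hvb := fixM_conj hM hcb hv
    have hMc : ∀ a ∈ M, ∀ c ∈ M, a * c = c * a := fun a ha c hc =>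
      congrArg Subtype.val (hM.elem.1.is_comm.comm (⟨a, ha⟩ : M) ⟨c, hc⟩)
    have hM2 : ∀ a ∈ M, a * a = 1 := fun a ha => by rw [← pow_two]; exact hM.elem.2 a ha
    have hfixb : ∀ w ∈ fixM M ι (Subgroup.closure s), ι b * w = w * ι b → ι x * w = w * ι x := by
      intro w hw hwb
      refine h w (mem_fixM_closure (mem_fixM.1 hw).1 ?_)
      rintro g (rfl | hg)
      · exact hwb
      · exact (mem_fixM.1 hw).2 g (Subgroup.subset_closure hg)
    have hb2 : ι b * ι b = 1 := by rw [← map_mul, ← pow_two, hB.2 b hbB, map_one]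
    set β : MulAut L := MulAut.conj (ι b)
    set ξ : MulAut L := MulAut.conj (ι x)
    have hββ : ∀ w, β (β w) = w := fun w => by
      simp only [β, MulAut.conj_apply]
      calc ι b * (ι b * w * (ι b)⁻¹) * (ι b)⁻¹ = (ι b * ι b) * w * (ι b * ι b)⁻¹ := by group
        _ = w := by rw [hb2]; group
    have hβξ : ∀ w, β (ξ w) = ξ (β w) := fun w => by
      simp only [β, ξ, MulAut.conj_apply]
      calc ι b * (ι x * w * (ι x)⁻¹) * (ι b)⁻¹ = (ι b * ι x) * w * (ι b * ι x)⁻¹ := by group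
        _ = (ι x * ι b) * w * (ι x * ι b)⁻¹ := by
          rw [← map_mul, ← map_mul, (hx b hbB).eq]
        _ = _ := by group
    have hξM : ∀ w ∈ M, ξ w ∈ M := fun w hw => (mem_normalizer_iff.1 (hM.norm x) w).1 hw
    set d := ξ v * v with hd
    have hdM : d ∈ M := M.mul_mem (hξM v hvM) hvM
    have hdF : d ∈ fixM M ι (Subgroup.closure s) := Subgroup.mul_mem _ (fixM_conj hM hcx hv) hv
    have hu : v * β v ∈ fixM M ι (Subgroup.closure s) := Subgroup.mul_mem _ hv hvb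
    have hxu : ξ (v * β v) = v * β v := by
      refine mul_inv_eq_iff_eq_mul.2 (hfixb _ hu ?_)
      refine mul_inv_eq_iff_eq_mul.1 ?_
      show β (v * β v) = v * β v
      rw [map_mul, hββ]
      exact hMc _ (mem_fixM.1 hvb).1 _ hvM
    have hdb : ι b * d = d * ι b := by
      refine mul_inv_eq_iff_eq_mul.1 ?_
      show β d = d
      rw [map_mul] at hxu
      have h1 : β d = ξ (β v) * β v := by rw [hd, map_mul, hβξ]
      have h2 : ξ (β v) = ξ v * (v * β v) := by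
        rw [← hxu, ← mul_assoc, hM2 _ (hξM v hvM), one_mul]
      have hbvM : β v ∈ M := (mem_fixM.1 hvb).1
      rw [h1, h2, hd, mul_assoc, mul_assoc, hM2 _ hbvM, mul_one]
    have hxd : ξ d = d := mul_inv_eq_iff_eq_mul.2 (hfixb d hdF hdb)
    have hv1 : ξ v = d * v := by rw [hd, mul_assoc, hM2 v hvM, mul_one]
    have hpow : ∀ j : ℕ, ι x ^ j * v * (ι x ^ j)⁻¹ = d ^ j * v := by
      intro j
      induction j with
      | zero => simp
      | succ j ihj =>
        calc ι x ^ (j + 1) * v * (ι x ^ (j + 1))⁻¹ = ξ (ι x ^ j * v * (ι x ^ j)⁻¹) := by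
              simp only [ξ, MulAut.conj_apply, pow_succ']; group
          _ = _ := by rw [ihj, map_mul, map_pow, hxd, hv1, ← mul_assoc, ← pow_succ]
    have h1 := hpow (orderOf x)
    rw [← map_pow, pow_orderOf_eq_one, map_one, one_mul, inv_one, mul_one] at h1
    have hd1 : d = 1 := by
      obtain ⟨k, hk⟩ := hodd
      have h2 : d ^ orderOf x = 1 := mul_right_cancel (h1.symm.trans (one_mul v).symm)
      rwa [hk, pow_succ, pow_mul, hM.elem.2 d hdM, one_pow, one_mul] at h2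
    exact mul_inv_eq_iff_eq_mul.1 (show ξ v = v by rw [hv1, hd1, one_mul])

/-- An involution inverting an odd element halves the fixed points several times. -/
theorem step [Finite Γ] [Finite L] (hM : Act M ι) {B : Subgroup Γ} (hB : IsElementaryAbelian 2 B)
    {r : ℕ} (hr : r.Prime) (hr2 : r ≠ 2) {e : ℕ} (hmin : ∀ k, 0 < k → r ∣ 2 ^ k - 1 → 2 * e ≤ k + 1)
    {a x : Γ} (ha : a * a = 1) (haB : ∀ b ∈ B, Commute b a) (hx : x ≠ 1) (hxr : ∃ k, orderOf x = r ^ k)
    (hxB : ∀ b ∈ B, Commute b x) (hinv : a * x * a⁻¹ = x⁻¹) :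
    2 ^ e * Nat.card ↥(fixM M ι (B ⊔ zpowers a)) ≤ Nat.card ↥(fixM M ι B) := by
  haveI := Fact.mk hr
  haveI : Fact (Nat.Prime 2) := ⟨Nat.prime_two⟩
  obtain ⟨k, hk⟩ := hxr
  have hk0 : k ≠ 0 := by
    rintro rfl
    exact hx (orderOf_eq_one_iff.1 (by rw [hk, pow_zero]))
  obtain ⟨k, rfl⟩ := Nat.exists_eq_succ_of_ne_zero hk0
  set y := x ^ r ^ k with hy
  have hyo : orderOf y = r := by
    rw [hy, orderOf_pow' x (pow_ne_zero _ hr.ne_zero), hk,
      Nat.gcd_eq_right (pow_dvd_pow r k.le_succ), pow_succ',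
      Nat.mul_div_cancel _ (pow_pos hr.pos k)]
  have hyinv : a * y * a⁻¹ = y⁻¹ := by rw [hy, ← conj_pow, hinv, inv_pow]
  have hyB : ∀ b ∈ B, Commute b y := fun b hb => (hxB b hb).pow_right _
  have hy2o : orderOf (y * y) = r := by
    rw [← pow_two, orderOf_pow' y two_ne_zero, hyo, ((Nat.coprime_primes hr Nat.prime_two).2 hr2).gcd_eq_one, Nat.div_one]
  set W := fixM M ι B with hW
  have hWel : IsElementaryAbelian 2 W := PGroup.elemAb_mono hM.elem fun _ hv => (mem_fixM.1 hv).1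
  set C₁ := fixM M ι (B ⊔ zpowers a) with hC₁
  set C₂ := C₁.map (MulAut.conj (ι y)).toMonoidHom with hC₂
  have hC₁W : C₁ ≤ W := fixM_anti le_sup_left
  have hnW : ∀ g, (∀ b ∈ B, Commute b g) → ι g ∈ normalizer (W : Set L) := fun g hg =>
    mem_normalizer_iff.2 fun v => ⟨fun hv => fixM_conj hM hg hv, fun hv => by
      have := fixM_conj hM (g := g⁻¹) (fun b hb => (hg b hb).inv_right) hv
      simpa [mul_assoc] using this⟩
  have hWy : W.map (MulAut.conj (ι y)).toMonoidHom = W :=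
    Subgroup.eq_of_le_of_card_ge (by
      rintro _ ⟨v, hv, rfl⟩
      exact fixM_conj hM hyB hv)
      (Subgroup.card_map_of_injective (MulAut.conj (ι y)).injective).ge
  have hrel : C₂.relIndex W = C₁.relIndex W := by
    conv_lhs => rw [hC₂, ← hWy]
    exact Subgroup.relIndex_map_map_of_injective _ _ (MulAut.conj (ι y)).injective
  have hzC : ∀ c ∈ C₁ ⊓ C₂, ι (y * y) * c = c * ι (y * y) := by
    rintro c ⟨hc1, d, hd, rfl⟩
    have hac := (mem_fixM.1 hc1).2 a (mem_sup_right (mem_zpowers a))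
    have had : Commute (ι a) d := (mem_fixM.1 hd).2 a (mem_sup_right (mem_zpowers a))
    have h1 : Commute (ι (y * a * y⁻¹)) ((MulAut.conj (ι y)).toMonoidHom d) := by
      simpa using had.conj (ι y)
    have he : y * y = y * a * y⁻¹ * a := by
      rw [show y * a * y⁻¹ * a = y * (a * y * a⁻¹)⁻¹ * (a * a) by group, hyinv, inv_inv, ha, mul_one]
    rw [he, map_mul]
    exact (h1.mul_left hac).eq
  have hnt : ∃ v ∈ W, ι (y * y) ^ (r ^ 0) * v ≠ v * ι (y * y) ^ (r ^ 0) := by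
    by_contra hcon
    push Not at hcon
    simp only [pow_zero, pow_one] at hcon
    have := eq_one_of_fix hM hB (x := y * y) (by rw [hy2o]; exact hr.odd_of_ne_two hr2)
      (fun b hb => (hyB b hb).mul_right (hyB b hb)) hcon
    rw [this, orderOf_one] at hy2o
    exact hr.one_lt.ne hy2o
  have hzo : orderOf (ι (y * y)) = r ^ (0 + 1) := by
    rw [zero_add, pow_one]
    refine orderOf_eq_prime ?_ fun h => ?_
    · rw [← map_pow, ← hy2o, pow_orderOf_eq_one, map_one]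
    · have h1 : y * y = 1 := hM.faith _ fun v _ => by rw [h, one_mul, mul_one]
      rw [h1, orderOf_one] at hy2o
      exact hr.one_lt.ne hy2o
  obtain ⟨j, hj0, hjd, hj⟩ := CfsgLib.LocalEven.FaithfulBound.relIndex_of_element hWel
    (hnW _ fun b hb => (hyB b hb).mul_right (hyB b hb)) (r := r) (a := 0) hr2 hzo hnt
    (inf_le_left.trans hC₁W : C₁ ⊓ C₂ ≤ W) hzC
  have hj2 := hmin j hj0 (by simpa using hjd)
  obtain ⟨t, ht⟩ := IsPGroup.iff_card.1 (PGroup.elemAb_isPGroup hWel)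
  have hmul : C₁.relIndex W * Nat.card C₁ = Nat.card W := by
    rw [← Nat.card_congr (Subgroup.subgroupOfEquivOfLe hC₁W).toEquiv]
    exact Subgroup.index_mul_card _
  obtain ⟨s, -, hs⟩ := (Nat.dvd_prime_pow Nat.prime_two).1 (ht ▸ Dvd.intro _ hmul : C₁.relIndex W ∣ 2 ^ t)
  have h2 : 2 ^ j ≤ 2 ^ (s + s) := by
    rw [pow_add, ← hs]
    refine hj.trans (Subgroup.relIndex_inf_le.trans ?_)
    rw [hrel]
  have h3 : j ≤ s + s := (Nat.pow_le_pow_iff_right (by norm_num)).1 h2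
  rw [← hmul, hs]
  exact Nat.mul_le_mul_right _ (Nat.pow_le_pow_right (by norm_num) (by omega))

theorem three_of_inverted [Finite Γ] (hfree : ¬ Involves (Equiv.Perm (Fin 3)) Γ) {r : ℕ} {a x : Γ}
    (ha : a * a = 1) (hx : x ≠ 1) (hxr : ∃ k, orderOf x = r ^ k) (hinv : a * x * a⁻¹ = x⁻¹) : r ≠ 3 := by
  rintro rfl
  haveI : Fact (Nat.Prime 3) := ⟨Nat.prime_three⟩
  have h := CfsgLib.LocalEven.DihedralCrit.involves_of_inverted (p := 3) (by norm_num) hxr hx hinv
    ((Nat.dvd_prime_pow Nat.prime_two (m := 1)).1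
      (orderOf_dvd_of_pow_eq_one (by rw [pow_one, pow_two, ha])) |>.imp fun k hk => hk.2)
  obtain ⟨eq⟩ := Cfsg.Agent.S3755.dihedral_three_equiv
  obtain ⟨X, N, hN, ⟨f⟩⟩ := h
  exact hfree ⟨X, N, hN, ⟨f.trans eq⟩⟩

theorem min_two {r : ℕ} (hr : r.Prime) (h3 : r ≠ 3) : ∀ k, 0 < k → r ∣ 2 ^ k - 1 → 2 * 2 ≤ k + 1 := by
  intro k hk hd
  by_contra h
  replace h : k ≤ 2 := by omega
  interval_cases k
  · exact hr.one_lt.ne' (Nat.dvd_one.1 (by simpa using hd))
  · exact h3 ((Nat.prime_dvd_prime_iff_eq hr Nat.prime_three).1 (by simpa using hd))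

/-- Chains of inverted elements. -/
theorem chain [Finite Γ] [Finite L] (hM : Act M ι) {e : ℕ} : ∀ {k : ℕ} {A B : Subgroup Γ}
    (_ : IsElementaryAbelian 2 (B ⊔ A)) (a x : Fin k → Γ) (_ : ∀ i, a i ∈ A)
    (_ : ∀ i, ∃ r : ℕ, r.Prime ∧ r ≠ 2 ∧ (∀ j, 0 < j → r ∣ 2 ^ j - 1 → 2 * e ≤ j + 1) ∧
      x i ≠ 1 ∧ ∃ m, orderOf (x i) = r ^ m)
    (_ : ∀ i, a i * x i * (a i)⁻¹ = (x i)⁻¹) (_ : ∀ i, ∀ b ∈ B, Commute b (x i))
    (_ : ∀ i j, j < i → Commute (a j) (x i)),
    2 ^ (e * k) * Nat.card ↥(fixM M ι (B ⊔ A)) ≤ Nat.card ↥(fixM M ι B) := by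
  intro k
  induction k with
  | zero =>
    intro A B _ a x _ _ _ _ _
    simpa using Subgroup.card_le_of_le (fixM_anti (M := M) (ι := ι) (le_sup_left : B ≤ B ⊔ A))
  | succ k ih =>
    intro A B hAB a x hmem hx hinv hB hcomm
    have hc : ∀ s ∈ B ⊔ A, ∀ t ∈ B ⊔ A, Commute s t := fun s hs t ht =>
      congrArg Subtype.val (hAB.1.is_comm.comm (⟨s, hs⟩ : ↥(B ⊔ A)) ⟨t, ht⟩)
    set B' := B ⊔ zpowers (a 0) with hB'
    have hle : B' ⊔ A = B ⊔ A := by
      rw [hB', sup_assoc, sup_eq_right.2 (zpowers_le.2 (hmem 0))]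
    obtain ⟨r, hr, hr2, hmin, hx0, hxr⟩ := hx 0
    have h1 := step hM (PGroup.elemAb_mono hAB le_sup_left) hr hr2 hmin
      (by rw [← pow_two]; exact hAB.2 _ (mem_sup_right (hmem 0)))
      (fun b hb => hc b (mem_sup_left hb) _ (mem_sup_right (hmem 0))) hx0 hxr (hB 0) (hinv 0)
    have h2 := ih (A := A) (B := B') (hle.symm ▸ hAB) (a ∘ Fin.succ) (x ∘ Fin.succ) (fun i => hmem _)
      (fun i => hx _) (fun i => hinv _) (fun i b hb => by
        refine (mem_centralizer_singleton_iff.1 ((sup_le (fun c hc' => ?_) (zpowers_le.2 ?_) :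
          B' ≤ centralizer ({x i.succ} : Set Γ)) hb) :)
        · exact mem_centralizer_singleton_iff.2 (hB i.succ c hc')
        · exact mem_centralizer_singleton_iff.2 (hcomm i.succ 0 (Fin.succ_pos i)))
      (fun i j hij => hcomm _ _ (Fin.succ_lt_succ_iff.2 hij))
    rw [hle] at h2
    calc 2 ^ (e * (k + 1)) * Nat.card ↥(fixM M ι (B ⊔ A))
        = 2 ^ e * (2 ^ (e * k) * Nat.card ↥(fixM M ι (B ⊔ A))) := by ring
      _ ≤ _ := (Nat.mul_le_mul_left _ h2).trans h1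

/-- An elementary abelian group acting faithfully on an odd solvable group. -/
theorem ext_odd [Finite Γ] [Finite L] (hM : Act M ι) (hfree : ¬ Involves (Equiv.Perm (Fin 3)) Γ)
    {B A K : Subgroup Γ} (hAB : IsElementaryAbelian 2 (B ⊔ A)) (hK : Group.IsSolvable K)
    (hKodd : Odd (Nat.card K)) (hAK : A ≤ normalizer (K : Set Γ)) (hBK : ∀ b ∈ B, ∀ k ∈ K, Commute b k)
    (hf : A ⊓ centralizer (K : Set Γ) = ⊥) : Ext M ι B A := by
  have hA : IsElementaryAbelian 2 A := PGroup.elemAb_mono hAB le_sup_right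
  haveI : Fact (Nat.Prime 2) := ⟨Nat.prime_two⟩
  obtain ⟨d, hd⟩ := IsPGroup.iff_card.1 (PGroup.elemAb_isPGroup hA)
  obtain ⟨a, x, hax, -, hcomm⟩ := CfsgLib.Components.dihedral_lemma hK hKodd hA hAK hf d hd
  have hpick : ∀ i, ∃ y ∈ K, ∃ r : ℕ, r.Prime ∧ r ≠ 2 ∧ y ≠ 1 ∧ (∃ m, orderOf y = r ^ m) ∧
      ∃ j : ℕ, y = x i ^ j := by
    intro i
    obtain ⟨-, -, hxK, hx1, -⟩ := hax i
    have hox : orderOf (x i) ≠ 1 := fun h => hx1 (orderOf_eq_one_iff.1 h)
    obtain ⟨r, hr, hrd⟩ := Nat.exists_prime_and_dvd hox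
    refine ⟨x i ^ (orderOf (x i) / r), K.pow_mem hxK _, r, hr, ?_, ?_, ⟨1, ?_⟩, _, rfl⟩
    · rintro rfl
      have h1 : 2 ∣ Nat.card K := hrd.trans (Subgroup.orderOf_dvd_natCard K hxK)
      exact (Nat.not_even_iff_odd.2 hKodd) (even_iff_two_dvd.2 h1)
    · intro h
      have h2 := orderOf_pow_orderOf_div (orderOf_pos (x i)).ne' hrd
      rw [h, orderOf_one] at h2
      exact hr.one_lt.ne h2
    · rw [pow_one, orderOf_pow_orderOf_div (orderOf_pos (x i)).ne' hrd]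
  choose y hyK r hr hr2 hy1 hyr j hj using hpick
  have hinv : ∀ i, a i * y i * (a i)⁻¹ = (y i)⁻¹ := fun i => by
    rw [hj, ← conj_pow, (hax i).2.2.2.2, inv_pow]
  have h := chain hM (e := 2) hAB a y (fun i => (hax i).1) (fun i => ⟨r i, hr i, hr2 i,
    min_two (hr i) (three_of_inverted hfree (by rw [← pow_two]; exact hA.2 _ (hax i).1) (hy1 i) (hyr i) (hinv i)),
    hy1 i, hyr i⟩) hinv (fun i b hb => hBK b hb _ (hyK i))
    (fun i k hik => by rw [hj]; exact (hcomm k i hik.ne).2.pow_right _)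
  unfold Ext
  rw [hd, ← pow_mul, mul_comm d 2]
  exact h

end CfsgLib.LocalEven.S3Bound
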