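import Cfsg.Agent.Lib.LocalEven.S3Bound.Orbit
import Cfsg.Agent.Lib.Cores.Fitting

/-!
`|A|² |C_M(A)| ≤ |M|` and `|A|² ≤ |[M, A]|` for `S₃`-free linear groups over the field with two
elements.
-/

set_option autoImplicit false

namespace CfsgLib.LocalEven.S3Bound

open Subgroup Cfsg
open scoped commutatorElement

theorem fix_bound {Γ L : Type*} [Group Γ] [Finite Γ] [Group L] [Finite L] {M : Subgroup L} {ι : Γ →* L}
    (hM : Act M ι) (hfree : ¬ Involves (Equiv.Perm (Fin 3)) Γ) (h2 : pCore 2 Γ = ⊥)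
    (hK : ∀ K : Subgroup Γ, IsComponent K → Nice (↥K ⧸ center ↥K)) {A : Subgroup Γ}
    (hA : IsElementaryAbelian 2 A) :
    Nat.card A ^ 2 * Nat.card ↥(fixM M ι A) ≤ Nat.card M := by
  classical
  haveI : Fact (Nat.Prime 2) := ⟨Nat.prime_two⟩
  haveI := CfsgLib.Cores.fittingSubgroup_normal (G := Γ)
  haveI := CfsgLib.Cores.generalizedFittingSubgroup_normal (G := Γ)
  set B := A ⊓ centralizer (layer Γ : Set Γ) with hB
  obtain ⟨A', hA', hAd, hAs⟩ := exists_compl hA (inf_le_left : B ≤ A)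
  have hBA : IsElementaryAbelian 2 (⊥ ⊔ B) := by rw [bot_sup_eq]; exact PGroup.elemAb_mono hA inf_le_left
  have hFodd : Odd (Nat.card ↥(fittingSubgroup Γ)) :=
    odd_card_of_subnormal h2 (inferInstance : (fittingSubgroup Γ).Normal).isSubnormal
      CfsgLib.Cores.isNilpotent_fittingSubgroup
  haveI : Group.IsNilpotent ↥(fittingSubgroup Γ) := CfsgLib.Cores.isNilpotent_fittingSubgroup
  have hf : B ⊓ centralizer (fittingSubgroup Γ : Set Γ) = ⊥ := by
    set C := centralizer (generalizedFittingSubgroup Γ : Set Γ) with hC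
    have hCF := CfsgLib.Cores.centralizer_generalizedFittingSubgroup_le (G := Γ)
    have hCc : IsMulCommutative ↥C := ⟨⟨fun x y => Subtype.ext
      (mem_centralizer_iff.1 y.2 x (hCF x.2))⟩⟩
    have hCodd := odd_card_of_subnormal h2 (inferInstance : C.Normal).isSubnormal
      (CfsgLib.Suzuki.isNilpotent_of_isMulCommutative _)
    rw [eq_bot_iff]
    rintro b ⟨⟨hbA, hbE⟩, hbF⟩
    have hb : b ∈ C := by
      have hle : generalizedFittingSubgroup Γ ≤ centralizer ({b} : Set Γ) := by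
        refine sup_le ?_ ?_ <;> intro x hx <;> refine mem_centralizer_singleton_iff.2 ?_
        · exact mem_centralizer_iff.1 hbE x hx
        · exact mem_centralizer_iff.1 hbF x hx
      exact mem_centralizer_iff.2 fun x hx => mem_centralizer_singleton_iff.1 (hle hx)
    exact mem_bot.2 (CfsgLib.Components.eq_one_of_mul_self_eq_one hCodd hb (by rw [← pow_two]; exact hA.2 b hbA))
  have e1 : Ext M ι ⊥ B := ext_odd hM hfree hBA (K := fittingSubgroup Γ) inferInstance hFodd
    (le_top.trans (normalizer_eq_top_iff.2 inferInstance).ge)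
    (fun b hb k _ => by rw [mem_bot.1 hb]; exact Commute.one_left k) hf
  haveI : Fintype (Subgroup Γ) := Fintype.ofFinite _
  set S := (Finset.univ : Finset (Subgroup Γ)).filter fun K => IsComponent K
  have hS : ∀ K ∈ S, IsComponent K := fun K h => (Finset.mem_filter.1 h).2
  have e2 : Ext M ι (⊥ ⊔ B) A' := by
    rw [bot_sup_eq]
    refine ext_components hM hfree h2 S.card S B A' le_rfl (fun K h => ⟨hS K h, hK K (hS K h)⟩)
      (fun a _ K h => Finset.mem_filter.2 ⟨Finset.mem_univ _, CfsgLib.Cores.isComponent_map_equiv (MulAut.conj a) (hS K h)⟩)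
      (by rw [hAs]; exact hA)
      (fun K h b hb k hk => (mem_centralizer_iff.1 hb.2 k (CfsgLib.Cores.component_le_layer (hS K h) hk)).symm)
      fun a ha h => ?_
    have haE : layer Γ ≤ centralizer ({a} : Set Γ) := (CfsgLib.Cores.layer_le_iff).2 fun K hK k hk =>
      mem_centralizer_singleton_iff.2 (h K (Finset.mem_filter.2 ⟨Finset.mem_univ _, hK⟩) k hk).eq.symm
    exact mem_bot.1 (hAd ▸ ⟨⟨hA' ha, mem_centralizer_iff.2 fun k hk => mem_centralizer_singleton_iff.1 (haE hk)⟩, ha⟩)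
  have h := ext_trans hA inf_le_left hA' e1 e2
  rw [Ext, bot_sup_eq, hAs] at h
  refine h.trans (Subgroup.card_le_of_le fun v hv => (mem_fixM.1 hv).1)

theorem comm_bound {Γ L : Type*} [Group Γ] [Finite Γ] [Group L] [Finite L] {M : Subgroup L} {ι : Γ →* L}
    (hM : Act M ι) (hfree : ¬ Involves (Equiv.Perm (Fin 3)) Γ) (h2 : pCore 2 Γ = ⊥)
    (hK : ∀ K : Subgroup Γ, IsComponent K → Nice (↥K ⧸ center ↥K)) {A : Subgroup Γ}
    (hA : IsElementaryAbelian 2 A) :
    Nat.card A ^ 2 ≤ Nat.card ↥⁅M, A.map ι⁆ := by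
  classical
  letI : CommGroup ↥M :=
    { (inferInstance : Group ↥M) with mul_comm := fun a b => hM.elem.1.is_comm.comm a b }
  let act : Γ →* MulAut ↥M :=
    { toFun := fun g => M.normalizerMonoidHom ⟨ι g, hM.norm g⟩
      map_one' := by
        rw [← map_one M.normalizerMonoidHom]; congr 1; exact Subtype.ext (map_one ι)
      map_mul' := fun g h => by
        rw [← map_mul M.normalizerMonoidHom]; congr 1; exact Subtype.ext (map_mul ι g h) }
  have hact : ∀ g (v : ↥M), ((act g v : ↥M) : L) = ι g * v * (ι g)⁻¹ := fun g v => rfl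
  let φ : Γ →* MulAut (↥M →* ℂˣ) :=
    { toFun := fun g =>
        { toFun := fun f => f.comp (act g⁻¹).toMonoidHom
          invFun := fun f => f.comp (act g).toMonoidHom
          left_inv := fun f => MonoidHom.ext fun v => by simp
          right_inv := fun f => MonoidHom.ext fun v => by simp
          map_mul' := fun f f' => rfl }
      map_one' := MulEquiv.ext fun f => MonoidHom.ext fun v => by simp
      map_mul' := fun g h => MulEquiv.ext fun f => MonoidHom.ext fun v => by simp [mul_inv_rev] }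
  have hφ : ∀ g (f : (↥M →* ℂˣ)) v, φ g f v = f (act g⁻¹ v) := fun g f v => rfl
  haveI : NeZero (Monoid.exponent ↥M) := ⟨Monoid.exponent_ne_zero_of_finite⟩
  haveI : Finite (↥M →* ℂˣ) := Finite.of_equiv _ (CommGroup.monoidHom_mulEquiv_of_hasEnoughRootsOfUnity ↥M ℂ).some.symm.toEquiv
  haveI : Finite (SemidirectProduct (↥M →* ℂˣ) Γ φ) := Finite.of_equiv _ SemidirectProduct.equivProd.symm
  set M' : Subgroup (SemidirectProduct (↥M →* ℂˣ) Γ φ) := (SemidirectProduct.inl : (↥M →* ℂˣ) →* SemidirectProduct (↥M →* ℂˣ) Γ φ).range with hM'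
  have hM'card : Nat.card M' = Nat.card M := by
    rw [hM', ← Nat.card_congr (MonoidHom.ofInjective SemidirectProduct.inl_injective).toEquiv,
      CommGroup.card_monoidHom_of_hasEnoughRootsOfUnity]
  have hcomm : ∀ g (f : (↥M →* ℂˣ)), (SemidirectProduct.inr g : SemidirectProduct (↥M →* ℂˣ) Γ φ) * SemidirectProduct.inl f =
      SemidirectProduct.inl f * SemidirectProduct.inr g ↔ φ g f = f := fun g f => by
    rw [← mul_inv_eq_iff_eq_mul, ← map_inv, ← SemidirectProduct.inl_aut, SemidirectProduct.inl_inj]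
  have hM2 : Act M' (SemidirectProduct.inr : Γ →* SemidirectProduct (↥M →* ℂˣ) Γ φ) := by
    refine ⟨PGroup.isElementaryAbelian_mk ?_ ?_, fun g => ?_, fun g hg => ?_⟩
    · rintro _ ⟨f, rfl⟩ _ ⟨f', rfl⟩
      rw [← map_mul, ← map_mul, show f * f' = f' * f from MonoidHom.ext fun v => mul_comm (f v) (f' v)]
    · rintro _ ⟨f, rfl⟩
      have : f ^ 2 = 1 := MonoidHom.ext fun v => by
        rw [MonoidHom.pow_apply, ← map_pow, show v ^ 2 = 1 from Subtype.ext (hM.elem.2 v v.2), map_one]; rfl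
      rw [← map_pow, this, map_one]
    · haveI : M'.Normal := by
        rw [hM', SemidirectProduct.range_inl_eq_ker_rightHom]; infer_instance
      rw [normalizer_eq_top_iff.2 ‹M'.Normal›]; exact mem_top _
    · apply hM.faith g
      intro v hv
      have key : act g⁻¹ ⟨v, hv⟩ = ⟨v, hv⟩ := by
        by_contra hne
        obtain ⟨f, hf⟩ := CommGroup.exists_apply_ne_one_of_hasEnoughRootsOfUnity ↥M ℂ
          (a := act g⁻¹ ⟨v, hv⟩ * (⟨v, hv⟩ : ↥M)⁻¹) (by rwa [Ne, mul_inv_eq_one])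
        have h := DFunLike.congr_fun ((hcomm g f).1 (hg _ ⟨f, rfl⟩)) (⟨v, hv⟩ : ↥M)
        rw [hφ] at h
        exact hf (by rw [map_mul, h, map_inv, mul_inv_cancel])
      have h : (ι g⁻¹) * v * (ι g⁻¹)⁻¹ = v := congrArg Subtype.val key
      rw [map_inv, inv_inv, mul_assoc, inv_mul_eq_iff_eq_mul] at h
      exact h.symm
  have h := fix_bound hM2 hfree h2 hK hA
  rw [hM'card] at h
  -- the fixed homomorphisms are those trivial on the commutators
  set N : Subgroup ↥M := ⁅M, A.map ι⁆.subgroupOf M with hN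
  have hle : ⁅M, A.map ι⁆ ≤ M := Subgroup.commutator_le.2 fun v hv _ ⟨a, _, ha⟩ => by
    rw [← ha, commutatorElement_def, mul_assoc, mul_assoc, ← mul_assoc (ι a)]
    exact M.mul_mem hv ((mem_normalizer_iff.1 (hM.norm a) _).1 (M.inv_mem hv))
  have hNc : Nat.card N = Nat.card ↥⁅M, A.map ι⁆ := Nat.card_congr (Subgroup.subgroupOfEquivOfLe hle).toEquiv
  haveI : NeZero (Monoid.exponent (↥M ⧸ N)) := ⟨Monoid.exponent_ne_zero_of_finite⟩
  have hlow : Nat.card (↥M ⧸ N) ≤ Nat.card ↥(fixM M' (SemidirectProduct.inr : Γ →* SemidirectProduct (↥M →* ℂˣ) Γ φ) A) := by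
    rw [← CommGroup.card_monoidHom_of_hasEnoughRootsOfUnity (↥M ⧸ N) ℂ]
    refine Nat.card_le_card_of_injective
      (fun f => ⟨SemidirectProduct.inl (f.comp (QuotientGroup.mk' N)), mem_fixM.2 ⟨⟨_, rfl⟩, fun a ha => ?_⟩⟩)
      fun f f' e => ?_
    · rw [hcomm]
      refine MonoidHom.ext fun v => ?_
      rw [hφ, MonoidHom.comp_apply, MonoidHom.comp_apply]
      congr 1
      refine QuotientGroup.eq.2 ?_
      rw [mem_subgroupOf]
      show ((act a⁻¹ v : ↥M) : L)⁻¹ * (v : L) ∈ _
      rw [hact, Subgroup.commutator_comm]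
      have := Subgroup.commutator_mem_commutator (H₁ := A.map ι) (H₂ := M)
        (⟨a⁻¹, A.inv_mem ha, rfl⟩ : ι a⁻¹ ∈ A.map ι) (M.inv_mem v.2)
      simpa [commutatorElement_def, mul_assoc] using this
    · have h1 := SemidirectProduct.inl_injective (congrArg Subtype.val e)
      exact QuotientGroup.monoidHom_ext _ h1
  have hmul : Nat.card A ^ 2 * Nat.card (↥M ⧸ N) ≤ Nat.card (↥M ⧸ N) * Nat.card ↥⁅M, A.map ι⁆ := by
    rw [← hNc, ← Subgroup.card_eq_card_quotient_mul_card_subgroup]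
    exact (Nat.mul_le_mul_left _ hlow).trans h
  rw [mul_comm] at hmul
  exact Nat.le_of_mul_le_mul_left hmul Nat.card_pos

end CfsgLib.LocalEven.S3Bound
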