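import Cfsg.Agent.Lib.LocalEven.FaithfulBound.ModelSz
import Cfsg.Agent.Lib.Suzuki.Facts
import Cfsg.Agent.Lib.Suzuki.Sylow
import Cfsg.Agent.Lib.Recognition.Suzuki.Automorphisms
import Cfsg.Agent.Lib.KnownSimple.PSLAut.Classification
import Cfsg.Agent.Lib.KnownSimple.PSLAut.FieldType
import Cfsg.Agent.Lib.Fusion.PSL2
import Cfsg.Agent.Lib.FGS.TransitiveSubspaces
import Cfsg.Agent.Lib.InvolChar.A8Normalizer
import Cfsg.Agent.Lib.LocalEven.S3Bound.Fix

/-!
Chains of inverted elements in `Sz(q)` and `PSL₂(3^odd)`; their involutory automorphisms are inner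
or invert an element of order three.
-/

set_option autoImplicit false

namespace CfsgLib.LocalEven.S3Bound

open Subgroup Cfsg Matrix
open scoped MatrixGroups

/-- The properties used of a simple composition factor. -/
def Nice (K : Type*) [Group K] : Prop :=
  (∀ α : MulAut K, α * α = 1 → (∃ g, α = MulAut.conj g) ∨ ∃ y, orderOf y = 3 ∧ α y = y⁻¹) ∧
  ∀ C : Subgroup K, IsElementaryAbelian 2 C → C ≠ ⊥ → ∃ (k e : ℕ) (c x : Fin k → K),
    Nat.card C ^ 2 ≤ 2 ^ (e * k) ∧ (∀ i, c i ∈ C) ∧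
    (∀ i, ∃ r : ℕ, r.Prime ∧ r ≠ 2 ∧ (∀ j, 0 < j → r ∣ 2 ^ j - 1 → 2 * e ≤ j + 1) ∧ orderOf (x i) = r) ∧
    (∀ i, c i * x i * (c i)⁻¹ = (x i)⁻¹) ∧ ∀ i j, j < i → Commute (c j) (x i)

theorem Nice.of_equiv {K K' : Type*} [Group K] [Group K'] (e : K ≃* K') (h : Nice K') : Nice K := by
  refine ⟨fun α hα => ?_, fun C hC hne => ?_⟩
  · set β : MulAut K' := (MulAut.congr e) α with hβ
    have hββ : β * β = 1 := by rw [hβ, ← map_mul, hα, map_one]
    rcases h.1 β hββ with ⟨g, hg⟩ | ⟨y, hy, hyi⟩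
    · refine Or.inl ⟨e.symm g, MulEquiv.ext fun x => e.injective ?_⟩
      have := MulEquiv.congr_fun hg (e x)
      simpa [hβ, MulAut.congr] using this
    · refine Or.inr ⟨e.symm y, by rw [MulEquiv.orderOf_eq]; exact hy, e.injective ?_⟩
      simpa [hβ, MulAut.congr] using hyi
  · obtain ⟨k, d, c, x, h1, h2, h3, h4, h5⟩ := h.2 (C.map e.toMonoidHom) (PGroup.elemAb_map hC _)
      (fun h0 => hne ((Subgroup.map_eq_bot_iff_of_injective _ e.injective).1 h0))
    rw [Subgroup.card_map_of_injective e.injective] at h1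
    refine ⟨k, d, e.symm ∘ c, e.symm ∘ x, h1, fun i => ?_, fun i => ?_, fun i => ?_, fun i j hij => ?_⟩
    · obtain ⟨z, hz, hze⟩ := h2 i
      show e.symm (c i) ∈ C
      rw [← hze]
      simpa using hz
    · obtain ⟨r, hr, hr2, hmin, ho⟩ := h3 i
      exact ⟨r, hr, hr2, hmin, by rw [Function.comp, MulEquiv.orderOf_eq]; exact ho⟩
    · simp only [Function.comp, ← map_mul, ← map_inv, h4 i]
    · exact (h5 i j hij).map e.symm.toMonoidHom

theorem inner_of_pow {K R : Type*} [Group K] [Monoid R] (f : R → MulAut K) (I : Subgroup (MulAut K))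
    (hI : ∀ φ (β : MulAut K), β ∈ I → ∃ γ ∈ I, f φ * β = γ * f φ) (hf : ∀ φ ψ, f (φ * ψ) = f φ * f ψ)
    {β α : MulAut K} {φ : R} (hα : α = β * f φ) (hβ : β ∈ I) (hα2 : α * α = 1) {d : ℕ} (hd : Odd d)
    (hφ : φ ^ d = 1) (h1 : f 1 = 1) : α ∈ I := by
  have key : ∀ j : ℕ, ∃ γ ∈ I, α ^ j = γ * f (φ ^ j) := by
    intro j
    induction j with
    | zero => exact ⟨1, I.one_mem, by rw [pow_zero, pow_zero, h1, mul_one]⟩
    | succ j ih =>
      obtain ⟨γ, hγ, hj⟩ := ih
      obtain ⟨δ, hδ, hδe⟩ := hI (φ ^ j) β hβ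
      refine ⟨γ * δ, I.mul_mem hγ hδ, ?_⟩
      rw [pow_succ, hj, hα, mul_assoc, ← mul_assoc (f _), hδe, pow_succ, hf]
      simp only [mul_assoc]
  obtain ⟨γ, hγ, hd'⟩ := key d
  obtain ⟨k, rfl⟩ := hd
  rw [hφ, h1, mul_one, pow_succ, pow_mul, pow_two, hα2, one_pow, one_mul] at hd'
  exact hd' ▸ hγ

/-! ### The Suzuki groups -/

section Suzuki

open CfsgLib.Suzuki CfsgLib.SuzukiLaws

variable {F : Type*} [Field F] [Fintype F] {m : ℕ}

theorem sz_elemAb_card (hF : Fintype.card F = 2 ^ (2 * m + 1)) (hm : 1 ≤ m) [Finite (Lie.Sz F (2 ^ (m + 1)))]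
    {C : Subgroup (Lie.Sz F (2 ^ (m + 1)))} (hC : IsElementaryAbelian 2 C) :
    Nat.card C ≤ 2 ^ (2 * m + 1) := by
  haveI : CharP F 2 := CfsgLib.Suzuki.charTwo hF
  haveI : Fact (Nat.Prime 2) := ⟨Nat.prime_two⟩
  obtain ⟨P, hP⟩ := (PGroup.elemAb_isPGroup hC).exists_le_sylow
  obtain ⟨g, hg⟩ := MulAction.exists_smul_eq ↥(Lie.Sz F (2 ^ (m + 1))) P (CfsgLib.Suzuki.sylow hF hm)
  have hmem : ∀ c : C, g * c * g⁻¹ ∈ CfsgLib.Suzuki.unip hF := fun c => by
    rw [← CfsgLib.Suzuki.coe_sylow hF hm, ← hg]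
    exact ⟨c, hP c.2, by simp⟩
  choose a b hab using hmem
  have ha : ∀ c : C, a c = 0 := by
    intro c
    have h : U hF (a c) (b c) * U hF (a c) (b c) = 1 := by
      rw [← hab c, show g * (c : Lie.Sz F (2 ^ (m + 1))) * g⁻¹ * (g * c * g⁻¹) =
        g * ((c : Lie.Sz F (2 ^ (m + 1))) ^ 2) * g⁻¹ from (by rw [pow_two]; group), hC.2 _ c.2]
      group
    have h2 : (U hF (a c) (b c))⁻¹ = U hF (a c) (b c) := inv_eq_of_mul_eq_one_right h
    rw [U_inv] at h2
    have h3 := (U_injective hF h2).2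
    rcases mul_eq_zero.1 (show a c * a c ^ 2 ^ (m + 1) = 0 by linear_combination h3) with h4 | h4
    · exact h4
    · exact pow_eq_zero_iff (Nat.two_pow_pos _).ne' |>.1 h4
  rw [← hF, ← Nat.card_eq_fintype_card]
  refine Nat.card_le_card_of_injective b fun c c' h => Subtype.ext ?_
  exact mul_left_cancel (mul_right_cancel ((hab c).trans (by rw [ha c, h, ← ha c', ← hab c'])))

theorem nice_sz (hF : Fintype.card F = 2 ^ (2 * m + 1)) (hm : 1 ≤ m) : Nice (Lie.Sz F (2 ^ (m + 1))) := by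
  haveI : CharP F 2 := CfsgLib.Suzuki.charTwo hF
  haveI : Finite (Lie.Sz F (2 ^ (m + 1))) := Nat.finite_of_card_ne_zero (by
    rw [card_group hF hm]
    refine Nat.mul_ne_zero (Nat.mul_ne_zero (by positivity) ?_) (by positivity)
    have : 2 ≤ 2 ^ (2 * m + 1) := Nat.le_self_pow (by omega) 2
    omega)
  refine ⟨fun α hα => Or.inl ?_, fun C hC hne => ?_⟩
  · obtain ⟨g, φ, hg⟩ := CfsgLib.Recognition.SzAut.exists_fieldAut hF hm α
    set I := (MulAut.conj : Lie.Sz F (2 ^ (m + 1)) →* _).range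
    obtain ⟨h, hh⟩ := inner_of_pow (CfsgLib.Recognition.SzAut.fieldHom hF) I
      (fun ψ β hβ => by
        obtain ⟨k, rfl⟩ := hβ
        exact ⟨_, ⟨CfsgLib.Recognition.SzAut.fieldHom hF ψ k, rfl⟩, MulEquiv.ext fun x => by simp⟩)
      (fun a b => map_mul _ a b) (β := MulAut.conj g⁻¹) (φ := φ)
      (show α = _ * CfsgLib.Recognition.SzAut.fieldAut hF φ by rw [← hg, map_inv, inv_mul_cancel_left])
      ⟨g⁻¹, rfl⟩ hα (d := Nat.card (F ≃+* F))
      (CfsgLib.Recognition.SzAut.card_ringAut_eq hF ▸ odd_two_mul_add_one m) pow_card_eq_one' (map_one _)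
    exact ⟨h, hh.symm⟩
  · obtain ⟨r, hr, hr2, hmin, hQ⟩ := CfsgLib.LocalEven.FaithfulBound.sz_pair hF hm
    obtain ⟨c, hc, hc1⟩ : ∃ c ∈ C, c ≠ 1 := by
      by_contra h; push Not at h; exact hne ((eq_bot_iff_forall _).2 h)
    have hcc : c * c = 1 := by rw [← pow_two]; exact hC.2 c hc
    obtain ⟨g, hg⟩ := hQ c hcc hc1
    set z := c * (g * c * g⁻¹) with hz
    refine ⟨1, 2 * (2 * m + 1), fun _ => c, fun _ => z ^ (orderOf z / r), ?_, fun _ => hc,
      fun _ => ⟨r, hr, hr2, fun j hj hd => by have := hmin j hj hd; omega,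
        orderOf_pow_orderOf_div (orderOf_pos z).ne' hg⟩, fun _ => ?_, fun i j hij => absurd hij (by omega)⟩
    · rw [mul_one, mul_comm 2, pow_mul]
      exact Nat.pow_le_pow_left (sz_elemAb_card hF hm hC) 2
    · have hci : c⁻¹ = c := inv_eq_of_mul_eq_one_right hcc
      have : c * z * c⁻¹ = z⁻¹ := by
        calc c * z * c⁻¹ = (c * c) * (g * c * g⁻¹) * c⁻¹ := by rw [hz]; group
          _ = (g * c⁻¹ * g⁻¹) * c⁻¹ := by rw [hcc, one_mul, hci]
          _ = z⁻¹ := by rw [hz]; group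
      rw [← conj_pow, this, inv_pow]

end Suzuki

/-! ### The groups `PSL₂(3^odd)` -/

section Linear

variable {F : Type} [Field F] [Fintype F] {n : ℕ}

open CfsgLib.Fusion.PSL2 in
theorem psl_data (hF : Fintype.card F = 3 ^ (2 * n + 1)) (hn : 1 ≤ n)
    (C : Subgroup (ProjectiveSpecialLinearGroup (Fin 2) F)) (hC : IsElementaryAbelian 2 C) (hne : C ≠ ⊥) :
    ∃ (k e : ℕ) (c x : Fin k → ProjectiveSpecialLinearGroup (Fin 2) F),
    Nat.card C ^ 2 ≤ 2 ^ (e * k) ∧ (∀ i, c i ∈ C) ∧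
    (∀ i, ∃ r : ℕ, r.Prime ∧ r ≠ 2 ∧ (∀ j, 0 < j → r ∣ 2 ^ j - 1 → 2 * e ≤ j + 1) ∧ orderOf (x i) = r) ∧
    (∀ i, c i * x i * (c i)⁻¹ = (x i)⁻¹) ∧ ∀ i j, j < i → Commute (c j) (x i) := by
  classical
  haveI : Fact (Nat.Prime 2) := ⟨Nat.prime_two⟩
  have hodd : Odd (Fintype.card F) := hF ▸ (by decide : Odd 3).pow
  have h2 : (2 : F) ≠ 0 := CfsgLib.Classical.two_ne_zero_of_odd_card hodd
  have hq8 : Fintype.card F % 8 = 3 := by
    rw [hF, pow_succ, pow_mul, Nat.mul_mod, Nat.pow_mod]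
    norm_num
  have hneg : ¬ IsSquare (-1 : F) := fun h => by
    have := FiniteField.isSquare_neg_one_iff.1 h
    omega
  have hq27 : 27 ≤ Fintype.card F := by
    rw [hF]
    exact le_trans (by norm_num) (Nat.pow_le_pow_right (by norm_num) (show 3 ≤ 2 * n + 1 by omega))
  obtain ⟨r, hr, hrd, hr2, hr3⟩ : ∃ r : ℕ, r.Prime ∧ r ∣ Fintype.card F + 1 ∧ r ≠ 2 ∧ r ≠ 3 := by
    obtain ⟨r, hr, hrd⟩ := Nat.exists_prime_and_dvd (n := (Fintype.card F + 1) / 4) (by omega)
    have h4 : (Fintype.card F + 1) / 4 ∣ Fintype.card F + 1 := Nat.div_dvd_of_dvd (by omega)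
    refine ⟨r, hr, hrd.trans h4, ?_, ?_⟩ <;> rintro rfl
    · omega
    · have h3 : 3 ∣ Fintype.card F := hF ▸ dvd_pow_self 3 (by omega)
      have := hrd.trans h4
      omega
  haveI := Fact.mk hr
  set π : SL(2, F) →* ProjectiveSpecialLinearGroup (Fin 2) F := QuotientGroup.mk' _
  have hπs : Function.Surjective π := QuotientGroup.mk'_surjective _
  have hker : ∀ {g}, π g = 1 ↔ g = 1 ∨ g = negOne := fun {g} =>
    (QuotientGroup.eq_one_iff g).trans mem_center_iff'
  have hnsq : (negOne : SL(2, F)) * negOne = 1 := by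
    refine Subtype.ext ?_
    show negOne.1 * negOne.1 = 1
    ext i j
    fin_cases i <;> fin_cases j <;> simp [negOne, Matrix.mul_apply]
  have htc : Nat.card (torus : Subgroup (SL(2, F))) = Fintype.card F + 1 := by
    have h : Nat.card {t : F // 1 + t ^ 2 = 0} = 0 := by
      haveI : IsEmpty {t : F // 1 + t ^ 2 = 0} := ⟨fun t => hneg ⟨t.1, by linear_combination -t.2⟩⟩
      simp
    have := card_torus (F := F) h2
    omega
  obtain ⟨⟨X, hX⟩, hXo⟩ := exists_prime_orderOf_dvd_card' (G := (torus : Subgroup (SL(2, F)))) r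
    (htc ▸ hrd)
  rw [Subgroup.orderOf_mk] at hXo
  have hxo : orderOf (π X) = r := by
    refine orderOf_eq_prime (by rw [← map_pow, ← hXo, pow_orderOf_eq_one, map_one]) fun h => ?_
    have hX2 : X ^ 2 = 1 := by rcases hker.1 h with h | h <;> simp [h, pow_two, hnsq]
    exact hr2 ((Nat.prime_dvd_prime_iff_eq hr Nat.prime_two).1 (hXo ▸ orderOf_dvd_of_pow_eq_one hX2))
  have hwsq : (wM : SL(2, F)) * wM = negOne := sq_of_trace_zero (by simp [wM])
  have hinvol : ∀ u : ProjectiveSpecialLinearGroup (Fin 2) F, u * u = 1 → u ≠ 1 →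
      ∃ T : SL(2, F), π T = u ∧ T.1 0 0 + T.1 1 1 = 0 := by
    intro u hu hu1
    obtain ⟨T, rfl⟩ := hπs u
    exact ⟨T, rfl, trace_zero_of_sq h2 ((QuotientGroup.eq_one_iff _).1 (by rw [← hu, ← map_mul]; rfl))
      fun h => hu1 ((QuotientGroup.eq_one_iff _).2 h)⟩
  have hconj : ∀ T : SL(2, F), T.1 0 0 + T.1 1 1 = 0 → ∃ P, π T = π P * π wM * (π P)⁻¹ := by
    intro T hT
    obtain ⟨P, hP⟩ := exists_conj_wM h2 hT
    exact ⟨P, by rw [← map_mul π P, ← hP, map_mul, mul_inv_cancel_right]⟩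
  have hflip : ∀ T : SL(2, F), T.1 0 1 = T.1 1 0 → T.1 0 0 + T.1 1 1 = 0 → ∀ Y ∈ (torus : Subgroup (SL(2, F))),
      T * Y * T⁻¹ = Y⁻¹ := by
    intro T h01 htr Y hY
    obtain ⟨y1, y2⟩ := hY
    have hd : T.1 1 1 = -T.1 0 0 := by linear_combination htr
    rw [mul_inv_eq_iff_eq_mul]
    refine ext2 ?_ ?_ ?_ ?_ <;>
      simp only [mul_entry, Matrix.SpecialLinearGroup.coe_inv, Matrix.adjugate_fin_two] <;>
      simp [h01, hd, y1, y2] <;> ring
  have hmin := min_two hr hr3
  -- an involution inverts an element of order `r`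
  have hsingle : ∀ u : ProjectiveSpecialLinearGroup (Fin 2) F, u * u = 1 → u ≠ 1 →
      ∃ y, orderOf y = r ∧ u * y * u⁻¹ = y⁻¹ := by
    intro u hu hu1
    obtain ⟨a, b, hab⟩ := CfsgLib.Classical.exists_sq_add_sq h2 (-1 : F)
    let T : SL(2, F) := ⟨!![a, b; b, -a], by rw [Matrix.det_fin_two]; simp; linear_combination -hab⟩
    obtain ⟨U, rfl, hU⟩ := hinvol u hu hu1
    obtain ⟨P, hP⟩ := hconj U hU
    obtain ⟨Q, hQ⟩ := hconj T (by simp [T])
    set g := π P * (π Q)⁻¹
    have hg : π U = g * π T * g⁻¹ := by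
      rw [hP, hQ]; simp only [g, _root_.mul_inv_rev, inv_inv, mul_assoc, inv_mul_cancel_left]
    refine ⟨MulAut.conj g (π X), by rw [MulEquiv.orderOf_eq]; exact hxo, ?_⟩
    have h := congrArg π (hflip T (by simp [T]) (by simp [T]) X hX)
    rw [map_mul, map_mul, map_inv, map_inv] at h
    rw [MulAut.conj_apply, hg]
    calc g * π T * g⁻¹ * (g * π X * g⁻¹) * (g * π T * g⁻¹)⁻¹ = g * (π T * π X * (π T)⁻¹) * g⁻¹ := by group
      _ = g * (π X)⁻¹ * g⁻¹ := by rw [h]
      _ = _ := by group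
  have hcard : Nat.card C ≤ 4 := by
    obtain ⟨k, hk⟩ := IsPGroup.iff_card.1 (PGroup.elemAb_isPGroup hC)
    rw [hk]
    refine Nat.pow_le_pow_right (n := 2) (j := 2) (by norm_num) ?_
    by_contra hlt
    obtain ⟨s, hs⟩ : ∃ s, Fintype.card F = 8 * s + 3 := ⟨Fintype.card F / 8, by omega⟩
    have h1 : 2 ^ 5 ∣ (Fintype.card F - 1) * Nat.card (SL(2, F)) := by
      have hcen : Nat.card (Subgroup.center (SL(2, F))) = 2 := by
        rw [Nat.card_eq_two_iff]
        refine ⟨1, ⟨negOne, mem_center_iff'.2 (Or.inr rfl)⟩, fun h => negOne_ne_one h2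
          (congrArg Subtype.val h).symm, Set.eq_univ_of_forall fun z => ?_⟩
        rcases mem_center_iff'.1 z.2 with h | h
        · exact Or.inl (Subtype.ext h)
        · exact Or.inr (Subtype.ext h)
      rw [Subgroup.card_eq_card_quotient_mul_card_subgroup (Subgroup.center (SL(2, F))), hcen]
      have h8 : 2 ^ 3 ∣ Nat.card (ProjectiveSpecialLinearGroup (Fin 2) F) :=
        (pow_dvd_pow 2 (by omega : 3 ≤ k)).trans (hk ▸ Subgroup.card_subgroup_dvd_card C)
      exact Nat.mul_dvd_mul (a := 2) (show 2 ∣ Fintype.card F - 1 by omega) (Nat.mul_dvd_mul h8 dvd_rfl)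
    rw [CfsgLib.Classical.card_SL_mul rfl 2 (by norm_num), Fin.prod_univ_two] at h1
    simp only [Fin.val_zero, Fin.val_one, pow_zero, pow_one] at h1
    rw [hs, show (8 * s + 3) ^ 2 - 1 = 8 * ((4 * s + 1) * (2 * s + 1)) from by
        apply Nat.sub_eq_of_eq_add; ring,
      show (8 * s + 3) ^ 2 - (8 * s + 3) = 2 * ((4 * s + 1) * (8 * s + 3)) from by
        apply Nat.sub_eq_of_eq_add; ring,
      show 8 * ((4 * s + 1) * (2 * s + 1)) * (2 * ((4 * s + 1) * (8 * s + 3))) =
        2 ^ 4 * ((4 * s + 1) * (2 * s + 1) * ((4 * s + 1) * (8 * s + 3))) by ring,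
      pow_succ 2 4, Nat.mul_dvd_mul_iff_left (by norm_num)] at h1
    rcases Nat.prime_two.dvd_mul.1 h1 with h | h <;> rcases Nat.prime_two.dvd_mul.1 h with h | h <;> omega
  obtain ⟨u, hu, hu1⟩ : ∃ u ∈ C, u ≠ 1 := by
    by_contra h; push Not at h; exact hne ((eq_bot_iff_forall _).2 h)
  have huu : ∀ v ∈ C, v * v = 1 := fun v hv => by rw [← pow_two]; exact hC.2 v hv
  obtain ⟨y₀, hy₀, hy₀i⟩ := hsingle u (huu u hu) hu1
  by_cases hv : ∃ v ∈ C, v ≠ 1 ∧ v ≠ u
  · obtain ⟨v, hv, hv1, hvu⟩ := hv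
    have hcuv : u * v = v * u := congrArg Subtype.val (hC.1.is_comm.comm (⟨u, hu⟩ : C) ⟨v, hv⟩)
    obtain ⟨U, rfl, hU⟩ := hinvol u (huu u hu) hu1
    obtain ⟨P, hP⟩ := hconj U hU
    set g := π P with hg
    set v' := g⁻¹ * v * g with hv'
    obtain ⟨T, hTe, hT⟩ := hinvol v' (by rw [hv', show g⁻¹ * v * g * (g⁻¹ * v * g) = g⁻¹ * (v * v) * g from (by group), huu v hv]; group) (fun h => hv1 (by
      rw [show v = g * v' * g⁻¹ by rw [hv']; group, h, mul_one, mul_inv_cancel]))
    have hcw : T * wM = wM * T ∨ T * wM = negOne * (wM * T) := by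
      have h : π (T * wM * (wM * T)⁻¹) = 1 := by
        rw [map_mul, map_inv, mul_inv_eq_one, map_mul, map_mul, hTe, hv',
          show π wM = g⁻¹ * π U * g by rw [hP]; group]
        calc g⁻¹ * v * g * (g⁻¹ * π U * g) = g⁻¹ * (v * π U) * g := by group
          _ = g⁻¹ * (π U * v) * g := by rw [hcuv]
          _ = _ := by group
      rcases hker.1 h with h | h
      · exact Or.inl (mul_inv_eq_one.1 h)
      · exact Or.inr (mul_inv_eq_iff_eq_mul.1 h)
    rcases hcw with hcw | hcw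
    · exfalso
      apply hvu
      have e00 := congrArg (fun g : SL(2, F) => g.1 0 0) hcw
      have e01 := congrArg (fun g : SL(2, F) => g.1 0 1) hcw
      simp only [mul_entry] at e00 e01
      simp [wM] at e00 e01
      have h11 : T.1 1 1 = T.1 0 0 := by linear_combination -e01
      have h00 : T.1 0 0 = 0 := (mul_eq_zero.1 (show (2 : F) * T.1 0 0 = 0 by
        linear_combination hT - h11)).resolve_left h2
      have hd := det_eq T
      rw [h11, h00] at hd
      have h10 : T.1 1 0 * T.1 1 0 = 1 := by linear_combination hd + T.1 1 0 * e00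
      have hTw : π T = π wM := by
        rw [← mul_inv_eq_one, ← map_inv, ← map_mul, hker]
        rcases mul_self_eq_one_iff.1 h10 with h | h
        · exact Or.inl (mul_inv_eq_one.2 (ext2 (by simp [wM, h00]) (by simp [wM]; linear_combination e00 - h)
            (by simp [wM, h]) (by simp [wM, h11, h00])))
        · refine Or.inr (mul_inv_eq_iff_eq_mul.2 (ext2 ?_ ?_ ?_ ?_)) <;>
            simp only [mul_entry] <;> simp [wM, negOne, h00, h11, h]
          linear_combination e00 - h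
      rw [hTe, hv'] at hTw
      rw [hP, ← hTw]; group
    have e00 := congrArg (fun g : SL(2, F) => g.1 0 0) hcw
    simp only [mul_entry] at e00
    simp [wM, negOne] at e00
    refine ⟨2, 2, ![π U, v], ![y₀, g * π X * g⁻¹], ?_, ?_, ?_, ?_, ?_⟩
    · exact (Nat.pow_le_pow_left hcard 2).trans (le_of_eq (by norm_num))
    · intro i; fin_cases i <;> simp [hu, hv]
    · intro i; fin_cases i
      · exact ⟨r, hr, hr2, hmin, hy₀⟩
      · refine ⟨r, hr, hr2, hmin, ?_⟩
        show orderOf (MulAut.conj g (π X)) = r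
        rw [MulEquiv.orderOf_eq]; exact hxo
    · intro i; fin_cases i
      · exact hy₀i
      · show v * (g * π X * g⁻¹) * v⁻¹ = (g * π X * g⁻¹)⁻¹
        have h := congrArg π (hflip T (by linear_combination e00) hT X hX)
        rw [map_mul, map_mul, map_inv, map_inv, hTe, hv'] at h
        calc v * (g * π X * g⁻¹) * v⁻¹ = g * (g⁻¹ * v * g * π X * (g⁻¹ * v * g)⁻¹) * g⁻¹ := by group
          _ = g * (π X)⁻¹ * g⁻¹ := by rw [h]
          _ = _ := by group
    · intro i j hij
      fin_cases i <;> fin_cases j <;> simp at hij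
      show Commute (π U) (g * π X * g⁻¹)
      rw [hP]
      refine (Commute.map ?_ π).conj g
      exact torus_comm (by exact ⟨by simp [wM], by simp [wM]⟩) hX
  · push Not at hv
    refine ⟨1, 2, fun _ => u, fun _ => y₀, ?_, fun _ => hu, fun _ => ⟨r, hr, hr2, hmin, hy₀⟩, fun _ => hy₀i,
      fun i j hij => absurd hij (by omega)⟩
    have h : Nat.card C ≤ Nat.card Bool := by
      refine Nat.card_le_card_of_injective (fun c : C => decide ((c : ProjectiveSpecialLinearGroup (Fin 2) F) = 1)) ?_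
      intro c c' h
      simp only [decide_eq_decide] at h
      by_cases hc : (c : ProjectiveSpecialLinearGroup (Fin 2) F) = 1
      · exact Subtype.ext (hc.trans (h.1 hc).symm)
      · exact Subtype.ext ((hv _ c.2 hc).trans (hv _ c'.2 fun h' => hc (h.2 h')).symm)
    rw [show Nat.card Bool = 2 by simp] at h
    exact le_trans (Nat.pow_le_pow_left h 2) (by norm_num)

open CfsgLib.PSLAut in
theorem psl_inner (hF : Fintype.card F = 3 ^ (2 * n + 1))
    (α : MulAut (ProjectiveSpecialLinearGroup (Fin 2) F)) (hα : α * α = 1) :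
    (∃ g, α = MulAut.conj g) ∨ ∃ y, orderOf y = 3 ∧ α y = y⁻¹ := by
  haveI : Fact (Nat.Prime 3) := ⟨Nat.prime_three⟩
  haveI : CharP F 3 := charP_of_card_eq_prime_pow hF
  have hodd : Odd (Fintype.card F) := hF ▸ (by decide : Odd 3).pow
  have h2 : (2 : F) ≠ 0 := CfsgLib.Classical.two_ne_zero_of_odd_card hodd
  have hq4 : Fintype.card F % 4 = 3 := by
    rw [hF, pow_succ, pow_mul, Nat.mul_mod, Nat.pow_mod]
    norm_num
  obtain ⟨g₀, σ, hg₀⟩ : ∃ g σ, α = conjAut g * fieldAut σ := by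
    obtain ⟨g, σ, h | ⟨h, -⟩⟩ := aut_classification le_rfl α
    · exact ⟨g, σ, h⟩
    · omega
  obtain ⟨g, rfl⟩ : α ∈ (conjAut : GL (Fin 2) F →* MulAut (ProjectiveSpecialLinearGroup (Fin 2) F)).range :=
    inner_of_pow fieldAut _ (fun φ β hβ => by
      obtain ⟨k, rfl⟩ := hβ
      exact ⟨_, ⟨fieldGL φ k, rfl⟩, fieldAut_mul_conjAut φ k⟩) (fun a b => map_mul _ a b) hg₀ ⟨g₀, rfl⟩ hα
      (d := Nat.card (F ≃+* F)) (Cfsg.Agent.TransitiveSubspaces.card_ringEquiv F (Nat.succ_pos _) hF ▸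
        odd_two_mul_add_one n) pow_card_eq_one' (map_one _)
  set π : SL(2, F) →* ProjectiveSpecialLinearGroup (Fin 2) F := QuotientGroup.mk' _
  obtain ⟨c', hc'⟩ := scalar_of_conjAut_eq_one le_rfl (g := g * g) (by rw [map_mul, hα])
  set c : F := (c' : F) with hc0
  have hgg : g.1 * g.1 = c • (1 : Matrix (Fin 2) (Fin 2) F) := by
    have h := congrArg Units.val hc'
    rw [Units.val_mul] at h
    rw [h, hc0]
    ext i j
    simp [Matrix.GeneralLinearGroup.scalar, Matrix.diagonal_apply, Matrix.one_apply]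
  have hd0 : g.1.det ≠ 0 := by
    intro h
    have h1 := congrArg Matrix.det g.mul_inv
    rw [Matrix.det_mul, h, zero_mul, Matrix.det_one] at h1
    exact zero_ne_one h1
  by_cases hsq : IsSquare g.1.det
  · left
    obtain ⟨s, hs⟩ := hsq
    have hs0 : s ≠ 0 := fun h => hd0 (by rw [hs, h, zero_mul])
    let u : SL(2, F) := ⟨s⁻¹ • g.1, by
      rw [Matrix.det_smul, Fintype.card_fin, hs, pow_two]; field_simp⟩
    refine ⟨π u, ?_⟩
    show conjAut g = MulAut.conj (QuotientGroup.mk u)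
    rw [conj_eq_conjAut]
    have hgu : g = Units.map (Matrix.scalar (Fin 2)).toMonoidHom (Units.mk0 s hs0) *
        Matrix.SpecialLinearGroup.toGL u := by
      refine Units.ext ?_
      show g.1 = Matrix.scalar (Fin 2) s * (s⁻¹ • g.1)
      rw [Matrix.scalar_apply, ← Matrix.smul_eq_diagonal_mul, smul_smul, mul_inv_cancel₀ hs0, one_smul]
    conv_lhs => rw [hgu]
    rw [map_mul]
    convert one_mul _
    refine eq_of_mk fun t => ?_
    rw [conjAut_mk]
    show _ = (QuotientGroup.mk t : ProjectiveSpecialLinearGroup (Fin 2) F)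
    congr 1
    refine Subtype.ext ?_
    rw [conjSL_coe]
    have hinv : ((Units.map (Matrix.scalar (Fin 2)).toMonoidHom (Units.mk0 s hs0))⁻¹ : GL (Fin 2) F).1 =
        Matrix.scalar (Fin 2) s⁻¹ := by simp [← map_inv]
    rw [← map_inv]
    show Matrix.scalar (Fin 2) s * t.1 * Matrix.scalar (Fin 2) s⁻¹ = t.1
    rw [(Matrix.scalar_commute s (Commute.all _) t.1).eq, mul_assoc, ← map_mul, mul_inv_cancel₀ hs0, map_one, mul_one]
  · right
    have hscal : ∀ a : F, g.1 ≠ a • (1 : Matrix (Fin 2) (Fin 2) F) := fun a h =>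
      hsq ⟨a, by rw [h, Matrix.det_smul, Fintype.card_fin, Matrix.det_one, pow_two, mul_one]⟩
    have htr : g.1 0 0 + g.1 1 1 = 0 := by
      by_contra ht
      refine hscal ((c + g.1.det) / (g.1 0 0 + g.1 1 1)) ?_
      ext i j
      have := congrFun (congrFun hgg i) j
      simp [Matrix.mul_apply, Fin.sum_univ_two] at this
      fin_cases i <;> fin_cases j <;>
        simp [Matrix.det_fin_two] at this ⊢
      · rw [eq_div_iff ht]; linear_combination this
      · exact (mul_eq_zero.1 (show g.1 0 1 * (g.1 0 0 + g.1 1 1) = 0 by linear_combination this)).resolve_right ht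
      · exact (mul_eq_zero.1 (show g.1 1 0 * (g.1 0 0 + g.1 1 1) = 0 by linear_combination this)).resolve_right ht
      · rw [eq_div_iff ht]; linear_combination this
    have hcd : c = -g.1.det := by
      have := congrFun (congrFun hgg 0) 0
      simp [Matrix.mul_apply, Fin.sum_univ_two] at this
      rw [Matrix.det_fin_two]
      linear_combination g.1 0 0 * htr - this
    obtain ⟨s, hs⟩ : IsSquare c := by
      have hq : ringChar F ≠ 2 := by rw [ringChar.eq F 3]; norm_num
      have hn1 : ¬ IsSquare (-1 : F) := fun h => FiniteField.isSquare_neg_one_iff.1 h hq4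
      rw [hcd, FiniteField.isSquare_iff hq (neg_ne_zero.2 hd0), neg_eq_neg_one_mul, mul_pow,
        (FiniteField.pow_dichotomy hq (neg_ne_zero.2 one_ne_zero)).resolve_left
          (fun h => hn1 ((FiniteField.isSquare_iff hq (neg_ne_zero.2 one_ne_zero)).2 h)),
        (FiniteField.pow_dichotomy hq hd0).resolve_left
          (fun h => hsq ((FiniteField.isSquare_iff hq hd0).2 h)), neg_mul_neg, one_mul]
    have hgs : g.1 * g.1 = (s * s) • (1 : Matrix (Fin 2) (Fin 2) F) := by rw [hgg, hs]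
    have hs0 : s ≠ 0 := by
      rintro rfl
      rw [mul_zero] at hs
      exact hd0 (by linear_combination hcd - hs)
    obtain ⟨Y, hY⟩ : ∃ Y : Matrix (Fin 2) (Fin 2) F, (g.1 + s • 1) * Y * (g.1 - s • 1) ≠ 0 := by
      obtain ⟨i, j, hij⟩ : ∃ i j, (g.1 + s • 1) i j ≠ 0 := by
        by_contra h; push Not at h
        exact hscal (-s) (by ext i j; have := h i j; simp at this ⊢; linear_combination this)
      obtain ⟨k, l, hkl⟩ : ∃ k l, (g.1 - s • 1) k l ≠ 0 := by
        by_contra h; push Not at h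
        exact hscal s (by ext a b; have := h a b; simp at this ⊢; linear_combination this)
      refine ⟨Matrix.single j k 1, fun h => ?_⟩
      have := congrFun (congrFun h i) l
      rw [Matrix.mul_apply, Finset.sum_eq_single k] at this
      · rw [Matrix.mul_apply, Finset.sum_eq_single j] at this
        · simp at this
          exact this.elim (fun h => hij (by simpa using h)) fun h => hkl (by simpa using h)
        · intro b _ hb; simp [hb.symm]
        · simp
      · intro b _ hb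
        rw [Matrix.mul_apply, Finset.sum_eq_zero fun a _ => by simp [hb.symm], zero_mul]
      · simp
    set N := (g.1 + s • 1) * Y * (g.1 - s • 1) with hN
    have hgN : g.1 * N = s • N := by
      have : g.1 * (g.1 + s • 1) = s • (g.1 + s • 1) := by
        rw [mul_add, hgs, Matrix.mul_smul, mul_one, smul_add, smul_smul, add_comm]
      rw [hN, ← mul_assoc, ← mul_assoc, this, Matrix.smul_mul, Matrix.smul_mul]
    have hNg : N * g.1 = (-s) • N := by
      have : (g.1 - s • 1) * g.1 = (-s) • (g.1 - s • 1) := by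
        rw [sub_mul, hgs, Matrix.smul_mul, one_mul, smul_sub, smul_smul, neg_mul, neg_smul, neg_smul]
        abel
      rw [hN, mul_assoc, this, Matrix.mul_smul]
    have hNN : N * N = 0 := by
      have h1 : (N * g.1) * N = N * (g.1 * N) := mul_assoc _ _ _
      rw [hgN, hNg, Matrix.smul_mul, Matrix.mul_smul] at h1
      have h3 : (2 * s) • (N * N) = 0 := by
        rw [two_mul, add_smul]
        nth_rewrite 1 [← h1]
        rw [← add_smul, neg_add_cancel, zero_smul]
      exact (smul_eq_zero.1 h3).resolve_left (mul_ne_zero h2 hs0)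
    have htrN : N 0 0 + N 1 1 = 0 := by
      have a := congrFun (congrFun hNN 0) 0
      have b := congrFun (congrFun hNN 1) 1
      have a' := congrFun (congrFun hNN 0) 1
      have b' := congrFun (congrFun hNN 1) 0
      simp [Matrix.mul_apply, Fin.sum_univ_two] at a b a' b'
      by_contra ht
      have h01 : N 0 1 = 0 := (mul_eq_zero.1 (show N 0 1 * (N 0 0 + N 1 1) = 0 by linear_combination a')).resolve_right ht
      rw [h01, zero_mul, add_zero] at a
      rw [h01, mul_zero, zero_add] at b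
      exact ht (by rw [mul_self_eq_zero.1 a, mul_self_eq_zero.1 b, add_zero])
    let u : SL(2, F) := ⟨1 + N, by
      have a := congrFun (congrFun hNN 0) 0
      simp [Matrix.mul_apply, Fin.sum_univ_two] at a
      rw [Matrix.det_fin_two]; simp
      linear_combination htrN - a + N 0 0 * htrN⟩
    have hu3 : u ^ 3 = 1 := Subtype.ext (by
      show ((u ^ 3 : SL(2, F)) : Matrix (Fin 2) (Fin 2) F) = 1
      rw [Matrix.SpecialLinearGroup.coe_pow]
      show (1 + N) ^ 3 = 1
      simp [pow_succ, add_mul, mul_add, hNN]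
      have h3 : (3 : ℕ) • N = 0 := by
        ext i j; simp [show (3 : F) = 0 from (CharP.cast_eq_zero F 3)]
      linear_combination (norm := module) h3)
    have hu1 : π u ≠ 1 := fun h => hY (by
      have hv := (QuotientGroup.eq_one_iff u).1 h
      rw [Matrix.SpecialLinearGroup.mem_center_iff] at hv
      obtain ⟨a, -, ha⟩ := hv
      have : N = (a - 1) • (1 : Matrix (Fin 2) (Fin 2) F) := by
        rw [sub_smul, one_smul, eq_sub_iff_add_eq, add_comm, Matrix.smul_one_eq_diagonal]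
        exact ha.symm
      rw [this, smul_mul_smul_comm, mul_one, smul_eq_zero] at hNN
      show N = 0
      rw [this, mul_self_eq_zero.1 (hNN.resolve_right one_ne_zero), zero_smul])
    refine ⟨π u, orderOf_eq_prime (by rw [← map_pow, hu3, map_one]) hu1, ?_⟩
    show conjAut g (QuotientGroup.mk u) = _
    rw [conjAut_mk, ← map_inv π]
    show π (conjSL g u) = π u⁻¹
    congr 1
    refine eq_inv_of_mul_eq_one_left (Subtype.ext ?_)
    show (conjSL g u).1 * u.1 = 1
    rw [conjSL_coe]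
    show g.1 * (1 + N) * (g⁻¹).1 * (1 + N) = 1
    have : g.1 * (1 + N) = (1 - N) * g.1 := by
      rw [mul_add, sub_mul, mul_one, one_mul, hgN, hNg, neg_smul, sub_neg_eq_add]
    rw [this, mul_assoc (1 - N) g.1, Units.mul_inv, mul_one, sub_mul, one_mul, mul_add, mul_one, hNN]
    abel

theorem nice_psl (hF : Fintype.card F = 3 ^ (2 * n + 1)) (hn : 1 ≤ n) :
    Nice (ProjectiveSpecialLinearGroup (Fin 2) F) :=
  ⟨psl_inner hF, psl_data hF hn⟩

end Linear

theorem nice_of_isSuzukiOrPSL2 {K : Type*} [Group K] [Finite K] [IsSimpleGroup K]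
    (hna : ¬ IsMulCommutative K) (h : IsSuzukiOrPSL2OddPowerThree K) : Nice K := by
  rcases h with ⟨F, _, _, m, hm, hF, ⟨e⟩⟩ | ⟨F, _, _, n, hF, ⟨e⟩⟩
  · exact (nice_sz hF hm).of_equiv e
  rcases Nat.eq_zero_or_pos n with rfl | hn
  · exfalso
    have hlt : Nat.card K < 60 := by
      rw [Nat.card_congr e.toEquiv]
      refine lt_of_le_of_lt (Nat.le_of_dvd Nat.card_pos (Subgroup.card_quotient_dvd_card _)) ?_
      have := CfsgLib.Classical.card_SL_mul (F := F) (q := 3) (by simpa using hF) 2 (by norm_num)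
      simp [Fin.prod_univ_two] at this
      omega
    haveI := CfsgLib.InvolChar.A8Normalizer.isSolvable_of_card_lt_sixty hlt
    exact hna ⟨⟨fun a b => (IsSimpleGroup.comm_iff_isSolvable.2 inferInstance) a b⟩⟩
  · exact (nice_psl hF hn).of_equiv e

end CfsgLib.LocalEven.S3Bound
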