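import Cfsg.Agent.Lib.LocalEven.S3Bound.Model
import Cfsg.Agent.Lib.Cores.Components
import Cfsg.Agent.Lib.Cores.Coprime
import Cfsg.Agent.Lib.Local.Quasisimple

/-!
The fixed point bound along the components.
-/

set_option autoImplicit false

namespace CfsgLib.LocalEven.S3Bound

open Subgroup Cfsg

variable {Γ L : Type*} [Group Γ] [Finite Γ] [Group L] [Finite L] {M : Subgroup L} {ι : Γ →* L}

theorem odd_card_of_subnormal (h2 : pCore 2 Γ = ⊥) {H : Subgroup Γ} (hH : H.IsSubnormal)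
    (hn : Group.IsNilpotent H) : Odd (Nat.card H) := by
  haveI : Fact (Nat.Prime 2) := ⟨Nat.prime_two⟩
  obtain ⟨P⟩ : Nonempty (Sylow 2 H) := inferInstance
  rw [Nat.odd_iff, ← Nat.two_dvd_ne_zero]
  intro hd
  have hPn : (P : Subgroup H).Normal :=
    Sylow.normal_of_normalizerCondition Group.normalizerCondition_of_isNilpotent P
  have hle : (P : Subgroup H).map H.subtype ≤ pCore 2 Γ :=
    CfsgLib.Cores.le_pCore_of_isSubnormal (hPn.isSubnormal.trans' hH) (P.isPGroup'.map _)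
  rw [h2, le_bot_iff, Subgroup.map_eq_bot_iff_of_injective _ (Subgroup.subtype_injective H)] at hle
  exact P.ne_bot_of_dvd_card hd hle

/-- The action of the normalizer of `K` on `K` modulo its centre. -/
def quotAct (K : Subgroup Γ) : ↥(normalizer (K : Set Γ)) →* MulAut (↥K ⧸ center ↥K) :=
  (CfsgLib.PSLAut.descend ↥K).comp K.normalizerMonoidHom

omit [Finite Γ] in
theorem quotAct_mk (K : Subgroup Γ) (a : ↥(normalizer (K : Set Γ))) (x : ↥K) :
    quotAct K a (QuotientGroup.mk x) =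
      QuotientGroup.mk (⟨(a : Γ) * x * (a : Γ)⁻¹, (mem_normalizer_iff.1 a.2 x).1 x.2⟩ : ↥K) := rfl

omit [Finite Γ] in
theorem commute_of_quotAct {K : Subgroup Γ} (hK : IsQuasisimple ↥K) {a : ↥(normalizer (K : Set Γ))}
    (ha : quotAct K a = 1) {k : Γ} (hk : k ∈ K) : Commute (a : Γ) k := by
  have hmem : ∀ x : ↥K, (⟨(a : Γ) * x * (a : Γ)⁻¹, (mem_normalizer_iff.1 a.2 x).1 x.2⟩ : ↥K) * x⁻¹ ∈
      center ↥K := fun x => by
    rw [← QuotientGroup.eq_one_iff, QuotientGroup.mk_mul, ← quotAct_mk, ha]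
    simp
  let f : ↥K →* ↥(center ↥K) :=
    { toFun := fun x => ⟨_, hmem x⟩
      map_one' := Subtype.ext (Subtype.ext (by simp))
      map_mul' := fun x y => by
        refine Subtype.ext (Subtype.ext ?_)
        have hc : ((a : Γ) * y * (a : Γ)⁻¹ * (y : Γ)⁻¹) * (x : Γ)⁻¹ = (x : Γ)⁻¹ * ((a : Γ) * y * (a : Γ)⁻¹ * (y : Γ)⁻¹) := by
          have := congrArg Subtype.val (Subgroup.mem_center_iff.1 (hmem y) x⁻¹)
          exact this.symm
        simp only [Subgroup.coe_mul, Subgroup.coe_inv]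
        calc (a : Γ) * (x * y) * (a : Γ)⁻¹ * ((x : Γ) * y)⁻¹
            = (a : Γ) * x * (a : Γ)⁻¹ * (((a : Γ) * y * (a : Γ)⁻¹ * (y : Γ)⁻¹) * (x : Γ)⁻¹) := by group
          _ = _ := by rw [hc]; group }
  have h1 : (⟨k, hk⟩ : ↥K) ∈ f.ker := by
    have hle : commutator ↥K ≤ f.ker := by
      rw [commutator_def, commutator_le]
      intro x _ y _
      rw [MonoidHom.mem_ker, map_commutatorElement, commutatorElement_eq_one_iff_mul_comm]
      exact Subtype.ext (Subgroup.mem_center_iff.1 (f y).2 _)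
    haveI := hK.1
    exact hle (by rw [Group.IsPerfect.commutator_eq_top]; exact mem_top _)
  have h2 : (a : Γ) * k * (a : Γ)⁻¹ * k⁻¹ = 1 :=
    congrArg (fun z : ↥(center ↥K) => ((z : ↥K) : Γ)) h1
  exact mul_inv_eq_iff_eq_mul.1 (mul_inv_eq_one.1 h2)

/-- Lifting an inverted element with given fixed points. -/
theorem exists_lift {K : Subgroup Γ} (hodd : Odd (Nat.card ↥(center ↥K))) {D : Subgroup Γ}
    (hD : IsPGroup 2 D) (hDK : D ≤ normalizer (K : Set Γ)) {r : ℕ} (hr : r.Prime) (hr2 : r ≠ 2)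
    {a : ↥(normalizer (K : Set Γ))} (ha : a * a = 1) (hDa : ∀ d ∈ D, Commute d (a : Γ))
    {xb : ↥K ⧸ center ↥K} (hxb : orderOf xb = r) (hDx : ∀ d (hd : d ∈ D), quotAct K ⟨d, hDK hd⟩ xb = xb)
    (hinv : quotAct K a xb = xb⁻¹) :
    ∃ x : ↥K, (∃ k, orderOf (x : Γ) = r ^ k) ∧ (x : Γ) ∉ centralizer (K : Set Γ) ∧
      (a : Γ) * x * (a : Γ)⁻¹ = (x : Γ)⁻¹ ∧ ∀ d ∈ D, Commute d (x : Γ) := by
  haveI := Fact.mk hr
  haveI : Fact (Nat.Prime 2) := ⟨Nat.prime_two⟩
  -- a lift fixed by `D`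
  let Ω := {g : ↥K // (QuotientGroup.mk g : ↥K ⧸ center ↥K) = xb}
  letI : MulAction ↥D Ω :=
    { smul := fun d g => ⟨⟨(d : Γ) * g.1 * (d : Γ)⁻¹, (mem_normalizer_iff.1 (hDK d.2) g.1).1 g.1.2⟩, by
        rw [← quotAct_mk K ⟨d, hDK d.2⟩, g.2, hDx d d.2]⟩
      one_smul := fun g => Subtype.ext (Subtype.ext (show (1 : Γ) * _ * (1 : Γ)⁻¹ = _ by simp))
      mul_smul := fun d e g => Subtype.ext (Subtype.ext (show (d * e : Γ) * _ * ((d : Γ) * e)⁻¹ =
        d * ((e : Γ) * _ * (e : Γ)⁻¹) * (d : Γ)⁻¹ by group)) }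
  have hΩ : ¬ 2 ∣ Nat.card Ω := by
    obtain ⟨g₀, hg₀⟩ := QuotientGroup.mk_surjective xb
    have e : Nat.card ↥(center ↥K) = Nat.card Ω := Nat.card_congr
      { toFun := fun z => ⟨g₀ * (z : ↥K), by
          rw [QuotientGroup.mk_mul, hg₀, (QuotientGroup.eq_one_iff (z : ↥K)).2 z.2, mul_one]⟩
        invFun := fun g => ⟨g₀⁻¹ * g.1, QuotientGroup.eq.1 (hg₀.trans g.2.symm)⟩
        left_inv := fun z => Subtype.ext (inv_mul_cancel_left _ _)
        right_inv := fun g => Subtype.ext (mul_inv_cancel_left _ _) }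
    rw [← e]
    exact fun h => (Nat.not_even_iff_odd.2 hodd) (even_iff_two_dvd.2 h)
  obtain ⟨g, hg⟩ := hD.nonempty_fixed_point_of_prime_not_dvd_card Ω hΩ
  have hgD : ∀ d ∈ D, Commute d ((g.1 : ↥K) : Γ) := fun d hd =>
    mul_inv_eq_iff_eq_mul.1 (congrArg (fun w : Ω => ((w.1 : ↥K) : Γ)) (hg ⟨d, hd⟩))
  -- its `r`-part
  obtain ⟨v, m, hm, ho⟩ := Nat.exists_eq_pow_mul_and_not_dvd (orderOf_pos g.1).ne' r hr.ne_one
  set x₀ := g.1 ^ m with hx₀
  have hx₀r : x₀ ^ r ^ v = 1 := by rw [hx₀, ← pow_mul, mul_comm, ← ho, pow_orderOf_eq_one]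
  set w : ↥K := ⟨(a : Γ) * x₀ * (a : Γ)⁻¹, (mem_normalizer_iff.1 a.2 x₀).1 x₀.2⟩ with hw
  have hwπ : (QuotientGroup.mk w : ↥K ⧸ center ↥K) = (QuotientGroup.mk x₀)⁻¹ := by
    rw [hw, ← quotAct_mk, hx₀, QuotientGroup.mk_pow, g.2, map_pow, hinv, inv_pow]
  have hwc : Commute w x₀ := by
    have hz : x₀ * w ∈ center ↥K := by
      rw [← QuotientGroup.eq_one_iff, QuotientGroup.mk_mul, hwπ, mul_inv_cancel]
    have h1 := Subgroup.mem_center_iff.1 hz x₀⁻¹
    show w * x₀ = x₀ * w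
    calc w * x₀ = x₀⁻¹ * (x₀ * w) * x₀ := by group
      _ = x₀ * w * x₀⁻¹ * x₀ := by rw [h1]
      _ = _ := by group
  have hwr : w ^ r ^ v = 1 := Subtype.ext (by
    rw [Subgroup.coe_pow, hw, conj_pow, ← Subgroup.coe_pow, hx₀r]; simp)
  refine ⟨x₀ * w⁻¹, ?_, ?_, ?_, ?_⟩
  · have h1 : (x₀ * w⁻¹) ^ r ^ v = 1 := by
      rw [hwc.symm.inv_right.mul_pow, hx₀r, inv_pow, hwr]; simp
    obtain ⟨k, -, hk⟩ := (Nat.dvd_prime_pow hr).1 (orderOf_dvd_of_pow_eq_one h1)
    exact ⟨k, by rw [Subgroup.orderOf_coe, hk]⟩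
  · intro hc
    have hz : x₀ * w⁻¹ ∈ center ↥K := Subgroup.mem_center_iff.2 fun y =>
      Subtype.ext (Subgroup.mem_centralizer_iff.1 hc y y.2)
    rw [← QuotientGroup.eq_one_iff, QuotientGroup.mk_mul, QuotientGroup.mk_inv, hwπ, inv_inv, hx₀,
      QuotientGroup.mk_pow, g.2, ← pow_add] at hz
    have h1 : r ∣ m + m := hxb ▸ orderOf_dvd_of_pow_eq_one hz
    rw [← two_mul] at h1
    rcases hr.dvd_mul.1 h1 with h2 | h2
    · exact hr2 ((Nat.prime_dvd_prime_iff_eq hr Nat.prime_two).1 h2)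
    · exact hm h2
  · have haa : (a : Γ) * a = 1 := congrArg Subtype.val ha
    have hai : (a : Γ)⁻¹ = a := inv_eq_of_mul_eq_one_right haa
    simp only [hw, Subgroup.coe_mul, Subgroup.coe_inv]
    calc (a : Γ) * (x₀ * ((a : Γ) * x₀ * (a : Γ)⁻¹)⁻¹) * (a : Γ)⁻¹
        = ((a : Γ) * x₀ * (a : Γ)⁻¹) * (((a : Γ) * a) * (x₀ : Γ)⁻¹ * ((a : Γ) * a)⁻¹) := by group
      _ = _ := by rw [haa]; group
  · intro d hd
    have h0 : Commute d (x₀ : Γ) := by rw [hx₀, Subgroup.coe_pow]; exact (hgD d hd).pow_right _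
    simp only [hw, Subgroup.coe_mul, Subgroup.coe_inv]
    exact h0.mul_right (((hDa d hd).mul_right h0).mul_right (hDa d hd).inv_right).inv_right

theorem isPGroup_closure {r : ℕ} {S : Set Γ} (hS : ∀ s ∈ S, ∀ t ∈ S, Commute s t)
    (hr : ∀ s ∈ S, ∃ k, s ^ r ^ k = 1) :
    IsPGroup r (Subgroup.closure S) ∧ ∀ x ∈ Subgroup.closure S, ∀ y ∈ Subgroup.closure S, Commute x y := by
  have hc : ∀ x ∈ Subgroup.closure S, ∀ y ∈ Subgroup.closure S, Commute x y := by
    intro x hx y hy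
    have h1 : Subgroup.closure S ≤ centralizer (S : Set Γ) :=
      (Subgroup.closure_le _).2 fun s hs => mem_centralizer_iff.2 fun t ht => hS t ht s hs
    exact mem_centralizer_iff.1 (((Subgroup.closure_le (centralizer {x})).2
      fun s hs => mem_centralizer_singleton_iff.2 (mem_centralizer_iff.1 (h1 hx) s hs)) hy) x rfl
  refine ⟨fun ⟨x, hx⟩ => ?_, hc⟩
  suffices ∃ k, x ^ r ^ k = 1 from this.imp fun k hk => Subtype.ext (by simpa using hk)
  induction hx using Subgroup.closure_induction with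
  | mem s hs => exact hr s hs
  | one => exact ⟨0, by simp⟩
  | mul s t hs ht ihs iht =>
    obtain ⟨k, hk⟩ := ihs
    obtain ⟨l, hl⟩ := iht
    refine ⟨k + l, ?_⟩
    rw [(hc s hs t ht).mul_pow, pow_add, pow_mul, hk, one_pow, one_mul, mul_comm, pow_mul, hl, one_pow]
  | inv s _ ih =>
    obtain ⟨k, hk⟩ := ih
    exact ⟨k, by rw [inv_pow, hk, inv_one]⟩

omit [Finite Γ] in
theorem map_conj_one (K : Subgroup Γ) : K.map (MulAut.conj (1 : Γ)).toMonoidHom = K := by
  ext; simp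

omit [Finite Γ] in
theorem map_conj_mul (K : Subgroup Γ) (s t : Γ) :
    (K.map (MulAut.conj t).toMonoidHom).map (MulAut.conj s).toMonoidHom =
      K.map (MulAut.conj (s * t)).toMonoidHom := by
  rw [Subgroup.map_map]
  congr 1
  ext y
  simp [mul_assoc]

/-- One orbit of components: the part moving the component. -/
theorem ext_move (hM : Act M ι) (hfree : ¬ Involves (Equiv.Perm (Fin 3)) Γ) {B T : Subgroup Γ}
    (hBT : IsElementaryAbelian 2 (B ⊔ T)) {K : Subgroup Γ} (hK : IsComponent K) (hBK : ∀ b ∈ B, ∀ k ∈ K, Commute b k)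
    (hT : ∀ t ∈ T, t ∈ normalizer (K : Set Γ) → t = 1) : Ext M ι B T := by
  haveI : Fact (Nat.Prime 2) := ⟨Nat.prime_two⟩
  haveI : IsSimpleGroup (↥K ⧸ center ↥K) := hK.2.2
  have hna := CfsgLib.Local.not_isMulCommutative_quotient_center hK.2
  -- an odd prime dividing the order of the simple quotient
  obtain ⟨r, hr, hr2, hrd⟩ : ∃ r : ℕ, r.Prime ∧ r ≠ 2 ∧ r ∣ Nat.card (↥K ⧸ center ↥K) := by
    by_contra hcon
    push Not at hcon
    refine hna ⟨⟨fun a b => IsSimpleGroup.comm_iff_isSolvable.2 ?_ a b⟩⟩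
    haveI : Group.IsNilpotent (↥K ⧸ center ↥K) := (IsPGroup.iff_card.2
      ⟨_, Nat.eq_prime_pow_of_unique_prime_dvd Nat.card_pos.ne' fun {d} hd hdd => by
        by_contra hne
        exact hcon d hd hne hdd⟩ : IsPGroup 2 _).isNilpotent
    infer_instance
  haveI := Fact.mk hr
  obtain ⟨P⟩ : Nonempty (Sylow r ↥K) := inferInstance
  obtain ⟨x, hxP, hx1⟩ : ∃ x ∈ P.1, (QuotientGroup.mk x : ↥K ⧸ center ↥K) ≠ 1 := by
    by_contra hcon
    push Not at hcon
    refine (P.mapSurjective (QuotientGroup.mk'_surjective (center ↥K))).ne_bot_of_dvd_card hrd ?_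
    rw [eq_bot_iff]
    rintro _ ⟨x, hx, rfl⟩
    exact hcon x hx
  obtain ⟨v, hv⟩ : ∃ v, (x : Γ) ^ r ^ v = 1 := by
    obtain ⟨v, hv⟩ := P.isPGroup' ⟨x, hxP⟩
    exact ⟨v, congrArg (fun z : ↥(P.1) => ((z : ↥K) : Γ)) hv⟩
  have hTc : ∀ s ∈ T, ∀ t ∈ T, Commute s t := fun s hs t ht =>
    congrArg Subtype.val (hBT.1.is_comm.comm (⟨s, mem_sup_right hs⟩ : ↥(B ⊔ T)) ⟨t, mem_sup_right ht⟩)
  set S : Set Γ := {y | ∃ t ∈ T, y = t * x * t⁻¹}
  have hdist : ∀ s ∈ T, ∀ t ∈ T, K.map (MulAut.conj s).toMonoidHom = K.map (MulAut.conj t).toMonoidHom → s = t := by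
    intro s hs t ht h
    refine inv_mul_eq_one.1 (hT _ (T.mul_mem (T.inv_mem hs) ht) (mem_normalizer_iff_map_conj_eq.2 ?_))
    have h1 := congrArg (Subgroup.map (MulAut.conj s⁻¹).toMonoidHom) h
    rw [map_conj_mul, map_conj_mul, inv_mul_cancel, map_conj_one] at h1
    exact h1.symm
  have hcomm : ∀ t ∈ T, t ≠ 1 → ∀ k ∈ K.map (MulAut.conj t).toMonoidHom, ∀ l ∈ K, Commute k l := by
    intro t ht ht1 k hk l hl
    have hne : K.map (MulAut.conj t).toMonoidHom ≠ K := fun h =>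
      ht1 (hdist t ht 1 T.one_mem (by rw [h, map_conj_one]))
    exact (mem_centralizer_iff.1 ((Subgroup.commutator_eq_bot_iff_le_centralizer.1
      (CfsgLib.Cores.commutator_components_eq_bot (CfsgLib.Cores.isComponent_map_equiv (MulAut.conj t) hK) hK hne)) hk) l hl).symm
  have hS : ∀ y ∈ S, ∀ z ∈ S, Commute y z := by
    rintro _ ⟨s, hs, rfl⟩ _ ⟨t, ht, rfl⟩
    rcases eq_or_ne (t⁻¹ * s) 1 with h | h
    · rw [inv_mul_eq_one.1 h]
    · have h1 := (hcomm _ (T.mul_mem (T.inv_mem ht) hs) h _ ⟨x, x.2, rfl⟩ x x.2).conj t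
      simpa [mul_assoc] using h1
  obtain ⟨hXp, hXc⟩ := isPGroup_closure hS (r := r) (by
    rintro _ ⟨t, -, rfl⟩; exact ⟨v, by rw [conj_pow, hv]; group⟩)
  haveI : Group.IsNilpotent ↥(Subgroup.closure S) := hXp.isNilpotent
  refine ext_odd hM hfree hBT (K := Subgroup.closure S) inferInstance ?_ ?_ ?_ ?_
  · obtain ⟨j, hj⟩ := IsPGroup.iff_card.1 hXp
    rw [hj]; exact (hr.odd_of_ne_two hr2).pow
  · intro t ht
    refine mem_normalizer_iff_map_conj_eq.2 ?_
    rw [MonoidHom.map_closure]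
    congr 1
    ext y
    constructor
    · rintro ⟨_, ⟨s, hs, rfl⟩, rfl⟩
      exact ⟨t * s, T.mul_mem ht hs, by simp [mul_assoc]⟩
    · rintro ⟨s, hs, rfl⟩
      exact ⟨_, ⟨t⁻¹ * s, T.mul_mem (T.inv_mem ht) hs, rfl⟩, by simp [mul_assoc]⟩
  · intro b hb k hk
    refine (mem_centralizer_singleton_iff.1 (((Subgroup.closure_le (centralizer {b})).2 ?_) hk) :).symm
    rintro _ ⟨t, ht, rfl⟩
    refine mem_centralizer_singleton_iff.2 ?_
    have htb : Commute t b :=
      congrArg Subtype.val (hBT.1.is_comm.comm (⟨t, mem_sup_right ht⟩ : ↥(B ⊔ T)) ⟨b, mem_sup_left hb⟩)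
    exact ((htb.mul_left (hBK b hb x x.2).symm).mul_left htb.inv_left).eq
  · rw [eq_bot_iff]
    rintro t ⟨ht, htC⟩
    refine mem_bot.2 ?_
    by_contra ht1
    have hx : t * x * t⁻¹ = x := mul_inv_eq_iff_eq_mul.2
      (mem_centralizer_iff.1 htC x (Subgroup.subset_closure ⟨1, T.one_mem, by group⟩)).symm
    apply hx1
    rw [QuotientGroup.eq_one_iff, Subgroup.mem_center_iff]
    intro y
    refine Subtype.ext ?_
    exact (hcomm t ht ht1 (x : Γ) ⟨x, x.2, by simpa using hx⟩ y y.2).eq.symm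


/-- The components bound. -/
theorem ext_components (hM : Act M ι) (hfree : ¬ Involves (Equiv.Perm (Fin 3)) Γ) (h2 : pCore 2 Γ = ⊥) :
    ∀ (n : ℕ) (S : Finset (Subgroup Γ)) (B A : Subgroup Γ), S.card ≤ n →
      (∀ K ∈ S, IsComponent K ∧ Nice (↥K ⧸ center ↥K)) →
      (∀ a ∈ A, ∀ K ∈ S, K.map (MulAut.conj a).toMonoidHom ∈ S) → IsElementaryAbelian 2 (B ⊔ A) →
      (∀ K ∈ S, ∀ b ∈ B, ∀ k ∈ K, Commute b k) →
      (∀ a ∈ A, (∀ K ∈ S, ∀ k ∈ K, Commute a k) → a = 1) → Ext M ι B A := by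
  classical
  haveI : Fact (Nat.Prime 2) := ⟨Nat.prime_two⟩
  intro n
  induction n with
  | zero =>
    intro S B A hn _ _ _ _ hf
    rw [Finset.card_eq_zero.1 (Nat.le_zero.1 hn)] at hf
    rw [(eq_bot_iff_forall A).2 fun a ha => hf a ha (by simp)]
    exact ext_bot B
  | succ n ih =>
    intro S B A hn hS hinv hBA hB hf
    rcases S.eq_empty_or_nonempty with rfl | ⟨K, hK⟩
    · rw [(eq_bot_iff_forall A).2 fun a ha => hf a ha (by simp)]
      exact ext_bot B
    obtain ⟨hKc, hKn⟩ := hS K hK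
    haveI : IsSimpleGroup (↥K ⧸ center ↥K) := hKc.2.2
    have hA : IsElementaryAbelian 2 A := PGroup.elemAb_mono hBA le_sup_right
    have hc : ∀ s ∈ B ⊔ A, ∀ t ∈ B ⊔ A, Commute s t := fun s hs t ht =>
      congrArg Subtype.val (hBA.1.is_comm.comm (⟨s, hs⟩ : ↥(B ⊔ A)) ⟨t, ht⟩)
    set A₁ := A ⊓ normalizer (K : Set Γ) with hA₁
    set A₀ := A ⊓ centralizer (K : Set Γ) with hA₀
    have hA₀₁ : A₀ ≤ A₁ := inf_le_inf_left _ (centralizer_le_normalizer _)
    obtain ⟨T, hTA, hTd, hTs⟩ := exists_compl hA (inf_le_left : A₁ ≤ A)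
    obtain ⟨A₂, hA₂, hA₂d, hA₂s⟩ := exists_compl (PGroup.elemAb_mono hA inf_le_left) hA₀₁
    -- the centraliser of the orbit
    have h0 : ∀ z ∈ A₀, ∀ a ∈ A, ∀ k ∈ K.map (MulAut.conj a).toMonoidHom, Commute z k := by
      rintro z hz a ha _ ⟨k, hk, rfl⟩
      have hza := hc z (mem_sup_right hz.1) a (mem_sup_right ha)
      exact (hza.mul_right (mem_centralizer_iff.1 hz.2 k hk).symm).mul_right hza.inv_right
    set S' := S.filter fun K' => ∀ a ∈ A, K.map (MulAut.conj a).toMonoidHom ≠ K' with hS'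
    have hS'n : S'.card ≤ n := by
      have : S'.card < S.card := Finset.card_lt_card (Finset.filter_ssubset.2
        ⟨K, hK, fun h => h 1 A.one_mem (map_conj_one K)⟩)
      omega
    have e1 : Ext M ι B A₀ := by
      refine ih S' B A₀ hS'n (fun K' h => hS K' (Finset.mem_filter.1 h).1) (fun z hz K' h => ?_)
        (PGroup.elemAb_mono hBA (sup_le_sup_left inf_le_left _)) (fun K' h => hB K' (Finset.mem_filter.1 h).1)
        (fun z hz h => hf z hz.1 fun K' hK' => ?_)
      · obtain ⟨hK'S, hK'⟩ := Finset.mem_filter.1 h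
        refine Finset.mem_filter.2 ⟨hinv z hz.1 K' hK'S, fun a ha he => hK' (z⁻¹ * a) (A.mul_mem (A.inv_mem hz.1) ha) ?_⟩
        rw [← map_conj_mul, he, map_conj_mul, inv_mul_cancel, map_conj_one]
      · by_cases h' : ∀ a ∈ A, K.map (MulAut.conj a).toMonoidHom ≠ K'
        · exact h K' (Finset.mem_filter.2 ⟨hK', h'⟩)
        · push Not at h'
          obtain ⟨a, ha, rfl⟩ := h'
          exact h0 z hz a ha
    have hB' : ∀ b ∈ B ⊔ A₀, ∀ t ∈ A, ∀ k ∈ K.map (MulAut.conj t).toMonoidHom, Commute b k := by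
      intro b hb t ht k hk
      refine (mem_centralizer_singleton_iff.1 ((sup_le (fun c hc' => ?_) (fun c hc' => ?_) :
        B ⊔ A₀ ≤ centralizer ({k} : Set Γ)) hb) :)
      · exact mem_centralizer_singleton_iff.2 (hB _ (hinv t ht K hK) c hc' k hk)
      · exact mem_centralizer_singleton_iff.2 (h0 c hc' t ht k hk)
    have hB'K : ∀ b ∈ B ⊔ A₀, ∀ k ∈ K, Commute b k := fun b hb k hk =>
      hB' b hb 1 A.one_mem k (by rw [map_conj_one]; exact hk)
    -- the part moving the component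
    have e2 : Ext M ι (B ⊔ A₀) T := by
      refine ext_move hM hfree (PGroup.elemAb_mono hBA (sup_le (sup_le le_sup_left
        (le_sup_of_le_right inf_le_left)) (le_sup_of_le_right hTA))) hKc hB'K fun t ht htn => ?_
      exact mem_bot.1 (hTd ▸ ⟨⟨hTA ht, htn⟩, ht⟩)
    -- the part normalising the component
    have hN : ∀ a ∈ A₂, a ∈ normalizer (K : Set Γ) := fun a ha => (hA₂ ha).2
    set ψ := quotAct K with hψ
    set A₂' := A₂.subgroupOf (normalizer (K : Set Γ)) with hA₂'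
    have hψinj : ∀ a ∈ A₂', ψ a = 1 → a = 1 := fun a ha h => by
      refine Subtype.ext (mem_bot.1 (hA₂d ▸ ⟨⟨(hA₂ ha).1, ?_⟩, ha⟩ : (a : Γ) ∈ (⊥ : Subgroup Γ)))
      exact mem_centralizer_iff.2 fun k hk => (commute_of_quotAct hKc.2 h hk).eq.symm
    have hodd : Odd (Nat.card ↥(center ↥K)) := by
      have h := odd_card_of_subnormal h2 (H := (center ↥K).map K.subtype)
        ((inferInstance : (center ↥K).Normal).isSubnormal.trans' hKc.1) ?_
      · rwa [Subgroup.card_map_of_injective (Subgroup.subtype_injective K)] at h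
      · exact CfsgLib.Cores.isNilpotent_map
          (CfsgLib.Suzuki.isNilpotent_of_isMulCommutative _) K.subtype
    have hinner : ∀ a ∈ A₂', ∃ g, ψ a = MulAut.conj g := by
      intro a ha
      have haa : a * a = 1 := Subtype.ext (by
        show (a : Γ) * a = 1
        rw [← pow_two]; exact hA.2 _ (hA₂ ha).1)
      refine (hKn.1 (ψ a) (by rw [← map_mul, haa, map_one])).resolve_right ?_
      rintro ⟨y, hy, hyi⟩
      obtain ⟨x, hxr, hxc, hxi, -⟩ := exists_lift hodd (IsPGroup.of_bot) (bot_le : (⊥ : Subgroup Γ) ≤ _)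
        Nat.prime_three (by norm_num) haa (fun d hd => by rw [mem_bot.1 hd]; exact Commute.one_left _) hy
        (fun d hd => by
          have : (⟨d, (bot_le : (⊥ : Subgroup Γ) ≤ normalizer (K : Set Γ)) hd⟩ : ↥(normalizer (K : Set Γ))) = 1 :=
            Subtype.ext (mem_bot.1 hd)
          rw [this, map_one]; rfl) hyi
      exact three_of_inverted hfree (congrArg Subtype.val haa) (fun h => hxc (by rw [h]; exact one_mem _)) hxr hxi rfl
    have hconj : Function.Injective (MulAut.conj : (↥K ⧸ center ↥K) →* MulAut (↥K ⧸ center ↥K)) := by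
      rw [injective_iff_map_eq_one]
      intro g hg
      have hgc : g ∈ center (↥K ⧸ center ↥K) := Subgroup.mem_center_iff.2 fun y => by
        have := MulEquiv.congr_fun hg y
        simp only [MulAut.conj_apply, MulAut.one_apply] at this
        exact (mul_inv_eq_iff_eq_mul.1 this).symm
      rcases (inferInstance : (center (↥K ⧸ center ↥K)).Normal).eq_bot_or_eq_top with h | h
      · exact mem_bot.1 (h ▸ hgc)
      · exact absurd (Subgroup.center_eq_top_iff.1 h) (CfsgLib.Local.not_isMulCommutative_quotient_center hKc.2)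
    set C := (A₂'.map ψ).comap MulAut.conj with hC
    have hle : A₂'.map ψ ≤ (MulAut.conj : (↥K ⧸ center ↥K) →* _).range := by
      rintro _ ⟨a, ha, rfl⟩
      obtain ⟨g, hg⟩ := hinner a ha
      exact ⟨g, hg.symm⟩
    have hCcard : Nat.card C = Nat.card A₂ := by
      rw [← Subgroup.card_map_of_injective hconj, hC, Subgroup.map_comap_eq_self hle,
        ← Nat.card_congr (Subgroup.subgroupOfEquivOfLe hN).toEquiv]
      exact (Nat.card_congr (Equiv.ofBijective (fun a : A₂' => (⟨ψ a, a.1, a.2, rfl⟩ : ↥(A₂'.map ψ)))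
        ⟨fun a b h => Subtype.ext (mul_inv_eq_one.1 (hψinj _ (A₂'.mul_mem a.2 (A₂'.inv_mem b.2)) (by
          rw [map_mul, map_inv, show ψ a = ψ b from congrArg Subtype.val h, mul_inv_cancel]))),
        fun ⟨_, a, ha, hae⟩ => ⟨⟨a, ha⟩, Subtype.ext hae⟩⟩)).symm
    have hCel : IsElementaryAbelian 2 C := PGroup.isElementaryAbelian_mk (fun g hg g' hg' => by
      obtain ⟨a, ha, hae⟩ := hg
      obtain ⟨b, hb, hbe⟩ := hg'
      refine hconj ?_
      rw [map_mul, map_mul, ← hae, ← hbe, ← map_mul, ← map_mul]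
      congr 1
      exact Subtype.ext (hc _ (mem_sup_right (hA₂ ha).1) _ (mem_sup_right (hA₂ hb).1))) (fun g hg => by
      obtain ⟨a, ha, hae⟩ := hg
      refine hconj ?_
      rw [map_pow, map_one, ← hae, ← map_pow, show a ^ 2 = 1 from Subtype.ext (hA.2 _ (hA₂ ha).1), map_one])
    have e3 : Ext M ι (B ⊔ A₀ ⊔ T) A₂ := by
      rcases eq_or_ne C ⊥ with hC0 | hC0
      · rw [show A₂ = ⊥ from (Subgroup.card_eq_one.1 (by rw [← hCcard, hC0, Subgroup.card_bot]))]
        exact ext_bot _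
      obtain ⟨k, e, c, xb, hbound, hcC, hxr, hcx, hcomm⟩ := hKn.2 C hCel hC0
      choose a ha hae using hcC
      choose r hr hr2 hmin hxo using hxr
      have hact : ∀ i g, ψ (a i) g = c i * g * (c i)⁻¹ := fun i g => by rw [hae i]; rfl
      have hlift : ∀ i, ∃ x : ↥K, (∃ j, orderOf (x : Γ) = r i ^ j) ∧ (x : Γ) ∉ centralizer (K : Set Γ) ∧
          (a i : Γ) * x * (a i : Γ)⁻¹ = (x : Γ)⁻¹ ∧
          ∀ j, j < i → Commute (a j : Γ) (x : Γ) := by
        intro i
        set D := ((A₂'.map (normalizer (K : Set Γ)).subtype) ⊓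
          ((MulAction.stabilizer (MulAut (↥K ⧸ center ↥K)) (xb i)).comap ψ).map (normalizer (K : Set Γ)).subtype) with hD
        have hDA : D ≤ A := fun d hd => by
          obtain ⟨a', ha', rfl⟩ := hd.1
          exact (hA₂ ha').1
        obtain ⟨x, h1, h2', h3, h4⟩ := exists_lift hodd (PGroup.elemAb_isPGroup (PGroup.elemAb_mono hA hDA))
          (fun d hd => by obtain ⟨a', -, rfl⟩ := hd.1; exact a'.2) (hr i) (hr2 i)
          (a := a i) (Subtype.ext (by
            show (a i : Γ) * a i = 1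
            rw [← pow_two]; exact hA.2 _ (hA₂ (ha i)).1))
          (fun d hd => hc d (mem_sup_right (hDA hd)) _ (mem_sup_right (hA₂ (ha i)).1)) (hxo i)
          (fun d hd => by
            obtain ⟨a', ha', he⟩ := hd.2
            have : (⟨d, he ▸ a'.2⟩ : ↥(normalizer (K : Set Γ))) = a' := Subtype.ext he.symm
            rw [this]; exact ha')
          (by rw [hact]; exact hcx i)
        refine ⟨x, h1, h2', h3, fun j hj => h4 _ ⟨⟨a j, ha j, rfl⟩, ⟨a j, ?_, rfl⟩⟩⟩
        show ψ (a j) (xb i) = xb i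
        rw [hact]
        exact mul_inv_eq_iff_eq_mul.2 (hcomm i j hj).eq
      choose x hxj hxc hxi hxf using hlift
      -- the diagonal
      have hel : IsElementaryAbelian 2 (B ⊔ A₀ ⊔ T ⊔ A₂) := PGroup.elemAb_mono hBA (sup_le (sup_le (sup_le le_sup_left
        (le_sup_of_le_right inf_le_left)) (le_sup_of_le_right hTA)) (le_sup_of_le_right (hA₂.trans inf_le_left)))
      haveI : Fintype ↥T := Fintype.ofFinite _
      have hdiag : ∀ i, ∃ y : Γ, (∃ j, orderOf y = r i ^ j) ∧ y ≠ 1 ∧ (a i : Γ) * y * (a i : Γ)⁻¹ = y⁻¹ ∧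
          (∀ b ∈ B ⊔ A₀ ⊔ T, Commute b y) ∧ ∀ j, j < i → Commute (a j : Γ) y := by
        intro i
        set Sx : Set Γ := {w | ∃ t ∈ T, w = t * x i * t⁻¹}
        have hdist : ∀ t ∈ T, t ≠ 1 → ∀ k' ∈ K, Commute (t * (x i : Γ) * t⁻¹) k' := by
          intro t ht ht1 k' hk'
          have hne : K.map (MulAut.conj t).toMonoidHom ≠ K := fun h =>
            ht1 (mem_bot.1 (hTd ▸ ⟨⟨hTA ht, mem_normalizer_iff_map_conj_eq.2 h⟩, ht⟩))
          exact (mem_centralizer_iff.1 ((Subgroup.commutator_eq_bot_iff_le_centralizer.1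
            (CfsgLib.Cores.commutator_components_eq_bot
              (CfsgLib.Cores.isComponent_map_equiv (MulAut.conj t) hKc) hKc hne)) ⟨x i, (x i).2, rfl⟩) k' hk').symm
        have hSc : ∀ u ∈ Sx, ∀ w ∈ Sx, Commute u w := by
          rintro _ ⟨s, hs, rfl⟩ _ ⟨t, ht, rfl⟩
          rcases eq_or_ne (t⁻¹ * s) 1 with h | h
          · rw [inv_mul_eq_one.1 h]
          · have h1 := (hdist _ (T.mul_mem (T.inv_mem ht) hs) h (x i) (x i).2).conj t
            simpa [mul_assoc] using h1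
        obtain ⟨hXp, hXc⟩ := isPGroup_closure hSc (r := r i) (by
          rintro _ ⟨t, -, rfl⟩
          obtain ⟨j, hj⟩ := hxj i
          exact ⟨j, by rw [conj_pow, ← hj, pow_orderOf_eq_one]; group⟩)
        letI : CommGroup ↥(Subgroup.closure Sx) :=
          { (inferInstance : Group ↥(Subgroup.closure Sx)) with
            mul_comm := fun u w => Subtype.ext (hXc u u.2 w w.2) }
        let f : ↥T → ↥(Subgroup.closure Sx) := fun t =>
          ⟨(t : Γ) * x i * (t : Γ)⁻¹, Subgroup.subset_closure ⟨t, t.2, rfl⟩⟩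
        set y := ∏ t, f t with hy
        have hconjy : ∀ (g : Γ) (σ : ↥T ≃ ↥T) (z : ℤ), (∀ t, g * (f t : Γ) * g⁻¹ = ((f (σ t)) ^ z : ↥(Subgroup.closure Sx))) →
            g * (y : Γ) * g⁻¹ = ((y ^ z : ↥(Subgroup.closure Sx)) : Γ) := by
          intro g σ z hg
          have hmap : ∀ u ∈ Subgroup.closure Sx, g * u * g⁻¹ ∈ Subgroup.closure Sx := by
            intro u hu
            refine ((Subgroup.closure_le ((Subgroup.closure Sx).comap (MulAut.conj g).toMonoidHom)).2 ?_) hu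
            rintro _ ⟨t, ht, rfl⟩
            show g * (t * x i * t⁻¹) * g⁻¹ ∈ Subgroup.closure Sx
            rw [show g * (t * x i * t⁻¹) * g⁻¹ = _ from hg ⟨t, ht⟩]
            exact SetLike.coe_mem _
          let φ : ↥(Subgroup.closure Sx) →* ↥(Subgroup.closure Sx) :=
            MonoidHom.mk' (fun u => ⟨g * u * g⁻¹, hmap u u.2⟩) fun u w => Subtype.ext
              (show g * ((u : Γ) * w) * g⁻¹ = g * u * g⁻¹ * (g * w * g⁻¹) by group)
          have : φ y = y ^ z := by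
            rw [hy, map_prod, ← Finset.prod_zpow]
            exact Fintype.prod_equiv σ _ _ fun t => Subtype.ext (hg t)
          exact congrArg Subtype.val this
        have hfix : ∀ g : Γ, (∀ t : ↥T, Commute g (f t : Γ)) → Commute g (y : Γ) := fun g hg => by
          have h := hconjy g (Equiv.refl _) 1 fun t => by simp [(hg t).eq]
          rw [zpow_one] at h
          exact mul_inv_eq_iff_eq_mul.1 h
        have haT : ∀ j (t : ↥T), Commute (a j : Γ) (t : Γ) := fun j t =>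
          hc _ (mem_sup_right (hA₂ (ha j)).1) _ (mem_sup_right (hTA t.2))
        refine ⟨y, ?_, ?_, ?_, ?_, fun j hj => hfix _ fun t =>
          ((haT j t).mul_right (hxf i j hj)).mul_right (haT j t).inv_right⟩
        · haveI := Fact.mk (hr i)
          obtain ⟨j, hj⟩ := (IsPGroup.iff_orderOf.1 hXp) y
          exact ⟨j, by rw [Subgroup.orderOf_coe, hj]⟩
        · intro h1
          apply hxc i
          have h2' : f 1 * ∏ t ∈ Finset.univ.erase (1 : ↥T), f t = 1 := by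
            rw [Finset.mul_prod_erase _ _ (Finset.mem_univ _), ← hy]
            exact Subtype.ext h1
          have h3 : ((∏ t ∈ Finset.univ.erase (1 : ↥T), f t : ↥(Subgroup.closure Sx)) : Γ) ∈ centralizer (K : Set Γ) := by
            have : ∏ t ∈ Finset.univ.erase (1 : ↥T), f t ∈ (centralizer (K : Set Γ)).comap (Subgroup.closure Sx).subtype :=
              Subgroup.prod_mem _ fun t ht => mem_centralizer_iff.2 fun k' hk' =>
                (hdist t t.2 (fun h => (Finset.mem_erase.1 ht).1 (Subtype.ext h)) k' hk').eq.symm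
            exact this
          have h4 := congrArg Subtype.val (eq_inv_of_mul_eq_one_left h2')
          have h5 : ((f 1 : ↥(Subgroup.closure Sx)) : Γ) = x i := by simp [f]
          rw [← h5, h4, Subgroup.coe_inv]
          exact Subgroup.inv_mem _ h3
        · have h := hconjy (a i) (Equiv.refl _) (-1) fun t => by
            show (a i : Γ) * ((t : Γ) * x i * (t : Γ)⁻¹) * (a i : Γ)⁻¹ = _
            rw [show (a i : Γ) * ((t : Γ) * x i * (t : Γ)⁻¹) * (a i : Γ)⁻¹ =
              ((a i : Γ) * t) * x i * ((a i : Γ) * t)⁻¹ by group, (haT i t).eq,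
              show ((t : Γ) * a i) * x i * ((t : Γ) * a i)⁻¹ = t * ((a i : Γ) * x i * (a i : Γ)⁻¹) * (t : Γ)⁻¹ by group,
              hxi i]
            simp [f, mul_assoc]
          simpa using h
        · intro b hb
          refine (mem_centralizer_singleton_iff.1 ((sup_le (fun c' hc' => ?_) (fun c' hc' => ?_) :
            B ⊔ A₀ ⊔ T ≤ centralizer ({(y : Γ)} : Set Γ)) hb) :)
          · refine mem_centralizer_singleton_iff.2 (hfix c' fun t => ?_).eq
            exact hB' c' hc' t (hTA t.2) _ ⟨x i, (x i).2, by simp [f]⟩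
          · refine mem_centralizer_singleton_iff.2 ?_
            have h := hconjy c' (Equiv.mulLeft (⟨c', hc'⟩ : ↥T)) 1 fun t => by simp [f, mul_assoc]
            rw [zpow_one] at h
            exact mul_inv_eq_iff_eq_mul.1 h
      choose y hyj hy1 hyi hyB hyf using hdiag
      have h := chain hM (e := e) hel (fun i => (a i : Γ)) y (fun i => ha i)
        (fun i => ⟨r i, hr i, hr2 i, hmin i, hy1 i, hyj i⟩) hyi (fun i b hb => hyB i b hb) hyf
      unfold Ext
      rw [← hCcard]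
      exact le_trans (Nat.mul_le_mul_right _ hbound) h
    have e12 := ext_trans hA inf_le_left hTA e1 e2
    have h123 := ext_trans hA (sup_le inf_le_left hTA) (hA₂.trans inf_le_left) e12
      (by rw [← sup_assoc]; exact e3)
    rwa [sup_right_comm A₀ T A₂, hA₂s, hTs] at h123

end CfsgLib.LocalEven.S3Bound
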